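import Cfsg.Prelude
import Cfsg.Agent.Inv.Isolated
import Cfsg.Agent.Fus.CoreBasic
import Cfsg.Agent.Fus.NormalizerSystem
import Cfsg.Agent.Solv.CoprimeSylow

/-!
Consequences of Glauberman's Z* theorem, taken here as a hypothesis.
-/

set_option autoImplicit false

namespace CfsgLib.Base.ZStar

open CfsgLib.Inv

universe u

/-- The conclusion of the Z* theorem, for every finite group in a universe. -/
def Holds : Prop :=
  ∀ (G : Type u) [Group G] [Finite G] (P : Sylow 2 G) (v : G), orderOf v = 2 → v ∈ P →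
    (∀ g : G, g * v * g⁻¹ ∈ P → g * v * g⁻¹ = v) →
    ∃ N : Subgroup G, N.Normal ∧ Odd (Nat.card N) ∧ ∀ g : G, (v * g * v⁻¹ * g⁻¹) ∈ N

variable {G : Type u} [Group G] [Finite G]

theorem le_oddCore {N : Subgroup G} (hn : N.Normal) (ho : Odd (Nat.card N)) :
    N ≤ Cfsg.oddCore G :=
  CfsgLib.Fus.le_pPrimeCore hn (Nat.coprime_two_right.2 ho)

theorem odd_card_oddCore : Odd (Nat.card (Cfsg.oddCore G)) :=
  Nat.coprime_two_right.1 (CfsgLib.Fus.coprime_card_pPrimeCore 2)

/-- An isolated involution is central modulo the odd core. -/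
theorem of_isolated (hZ : Holds.{u}) {z : G} (hz : orderOf z = 2) (hiso : Cfsg.IsIsolated z)
    (g : G) : z * g * z⁻¹ * g⁻¹ ∈ Cfsg.oddCore G := by
  have hp : IsPGroup 2 (Subgroup.zpowers z) :=
    IsPGroup.of_card (n := 1) (by rw [Nat.card_zpowers, hz, pow_one])
  obtain ⟨P, hP⟩ := hp.exists_le_sylow
  have hzP : z ∈ P := hP (Subgroup.mem_zpowers z)
  obtain ⟨N, hn, ho, hN⟩ := hZ G P z hz hzP (fun g hg => by
    have hodd := isolated_odd hz hiso g
    obtain ⟨k, hk⟩ := IsPGroup.iff_orderOf.1 P.isPGroup'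
      ⟨z * (g * z * g⁻¹), mul_mem hzP hg⟩
    rw [Subgroup.orderOf_mk] at hk
    have hk0 : k = 0 := by
      by_contra hk0
      rw [hk] at hodd
      exact Nat.not_odd_iff_even.2 ((even_two).pow_of_ne_zero hk0) hodd
    rw [hk0, pow_zero, orderOf_eq_one_iff] at hk
    exact (eq_inv_of_mul_eq_one_right hk).trans (invol_inv hz))
  exact le_oddCore hn ho (hN g)

theorem exists_central_of_rank_one (hZ : Holds.{u}) (heven : Even (Nat.card G))
    (hrank : ∀ E : Subgroup G, ¬ IsKleinFour E) :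
    ∃ z : G, orderOf z = 2 ∧ ∃ N : Subgroup G, N.Normal ∧ Odd (Nat.card N) ∧
      ∀ g : G, z * g * z⁻¹ * g⁻¹ ∈ N := by
  obtain ⟨z, hz⟩ := exists_prime_orderOf_dvd_card' 2 (even_iff_two_dvd.1 heven)
  refine ⟨z, hz, Cfsg.oddCore G, CfsgLib.Fus.normal_pPrimeCore 2, odd_card_oddCore,
    of_isolated hZ hz fun g hg => ?_⟩
  by_contra hne
  set v := g * z * g⁻¹ with hv
  have hv2 : orderOf v = 2 := invol_conj hz g
  have hzv : orderOf (z * v) = 2 := by
    rw [invol_iff]
    refine ⟨fun h => hne ?_, ?_⟩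
    · rw [eq_inv_of_mul_eq_one_right h, invol_inv hz]
    · rw [hg.symm.mul_mul_mul_comm, invol_mul_self hz, invol_mul_self hv2, one_mul]
  have hmem : ∀ d, d ∈ Subgroup.closure ({z, v} : Set G) →
      d = 1 ∨ d = z ∨ d = v ∨ d = z * v := by
    intro d hd
    have hp : ∀ k : ℤ, (z * v) ^ k = 1 ∨ (z * v) ^ k = z * v := by
      intro k
      rw [← zpow_mod_orderOf, hzv]
      rcases Int.emod_two_eq_zero_or_one k with h | h <;> simp [h]
    rcases (mem_pair_iff hz hv2).1 hd with ⟨k, rfl⟩ | ⟨k, rfl⟩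
    · rcases hp k with h | h <;> simp [h]
    · rcases hp k with h | h
      · simp [h]
      · right; right; left
        rw [h, ← mul_assoc, invol_mul_self hz, one_mul]
  have h4 : Nat.card (Subgroup.closure ({z, v} : Set G)) = 4 := by
    classical
    have hset : ((Subgroup.closure ({z, v} : Set G) : Subgroup G) : Set G) = {1, z, v, z * v} := by
      ext d
      constructor
      · intro hd; simpa using hmem d hd
      · intro hd
        simp only [Set.mem_insert_iff, Set.mem_singleton_iff] at hd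
        rcases hd with rfl | rfl | rfl | rfl
        · exact one_mem _
        · exact Subgroup.subset_closure (by simp)
        · exact Subgroup.subset_closure (by simp)
        · exact mul_mem (Subgroup.subset_closure (by simp)) (Subgroup.subset_closure (by simp))
    rw [← SetLike.coe_sort_coe, Nat.card_coe_set_eq, hset]
    have a1 := invol_ne_one hz
    have a2 := invol_ne_one hv2
    have a3 := invol_ne_one hzv
    have a4 : z ≠ v := fun h => hne h.symm
    rw [Set.ncard_insert_of_notMem (by simp [a1.symm, a2.symm, a3.symm]),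
      Set.ncard_insert_of_notMem (by simp [a4, a2]),
      Set.ncard_insert_of_notMem (by simp [a1]), Set.ncard_singleton]
  refine hrank (Subgroup.closure ({z, v} : Set G)) ⟨h4, ?_⟩
  refine Nat.dvd_antisymm (Monoid.exponent_dvd_of_forall_pow_eq_one fun d => ?_) ?_
  · apply Subtype.ext
    rw [SubmonoidClass.coe_pow, OneMemClass.coe_one, pow_two]
    rcases hmem _ d.2 with h | h | h | h <;> rw [h]
    · rw [one_mul]
    · exact invol_mul_self hz
    · exact invol_mul_self hv2
    · exact invol_mul_self hzv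
  · have := Monoid.order_dvd_exponent
      (⟨z, Subgroup.subset_closure (by simp)⟩ : Subgroup.closure ({z, v} : Set G))
    rwa [Subgroup.orderOf_mk, hz] at this

theorem oddCore_eq_bot_of {hO : ∀ N : Subgroup G, N.Normal → Odd (Nat.card N) → N = ⊥} :
    Cfsg.oddCore G = ⊥ :=
  hO _ (CfsgLib.Fus.normal_pPrimeCore 2) odd_card_oddCore

/-- With trivial odd core the centre is a 2-group. -/
theorem center_isPGroup (hO : ∀ N : Subgroup G, N.Normal → Odd (Nat.card N) → N = ⊥) :
    IsPGroup 2 (Subgroup.center G) := by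
  rw [IsPGroup.iff_card]
  refine ⟨(Nat.card (Subgroup.center G)).primeFactorsList.length,
    Nat.eq_prime_pow_of_unique_prime_dvd Nat.card_pos.ne' fun {d} hd hdvd => ?_⟩
  by_contra hd2
  have : Fact d.Prime := ⟨hd⟩
  obtain ⟨c, hc⟩ := exists_prime_orderOf_dvd_card' d hdvd
  have hn : (Subgroup.zpowers (c : G)).Normal := ⟨fun x hx g => by
    have hxc : x ∈ Subgroup.center G := Subgroup.zpowers_le.2 c.2 hx
    rwa [Subgroup.mem_center_iff.1 hxc g, mul_inv_cancel_right]⟩
  have h1 := hO _ hn (by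
    rw [Nat.card_zpowers, Subgroup.orderOf_coe, hc]
    exact hd.odd_of_ne_two hd2)
  rw [Subgroup.zpowers_eq_bot] at h1
  rw [← Subgroup.orderOf_coe, h1, orderOf_one] at hc
  exact hd.ne_one hc.symm

/-- An element of a central extension of odd-index type: pullback of the odd core. -/
theorem oddCore_quotient_central {z : G} (hz : orderOf z = 2) (hc : z ∈ Subgroup.center G)
    (hO : Cfsg.oddCore G = ⊥) [(Subgroup.zpowers z).Normal] :
    Cfsg.oddCore (G ⧸ Subgroup.zpowers z) = ⊥ := by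
  set Z := Subgroup.zpowers z
  have hnQ := CfsgLib.Fus.normal_pPrimeCore (G := G ⧸ Z) 2
  set M := (Cfsg.oddCore (G ⧸ Z)).comap (QuotientGroup.mk' Z) with hM
  haveI : M.Normal := hnQ.comap _
  have hZM : Z ≤ M := fun x hx => by
    show (QuotientGroup.mk' Z) x ∈ Cfsg.oddCore (G ⧸ Z)
    have : (QuotientGroup.mk' Z) x = 1 := (QuotientGroup.eq_one_iff x).2 hx
    rw [this]; exact one_mem _
  have hcard : Nat.card M = 2 * Nat.card (Cfsg.oddCore (G ⧸ Z)) := by
    have h2 := Subgroup.card_mul_index (Z.subgroupOf M)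
    rw [Nat.card_congr (Subgroup.subgroupOfEquivOfLe hZM).toEquiv, Nat.card_zpowers, hz,
      ← Subgroup.relIndex] at h2
    have h3 : Z.relIndex M = Nat.card (Cfsg.oddCore (G ⧸ Z)) := by
      conv_lhs => rw [← QuotientGroup.ker_mk' Z]
      rw [hM, ← MonoidHom.comap_bot, Subgroup.relIndex_comap,
        Subgroup.map_comap_eq_self_of_surjective (QuotientGroup.mk'_surjective Z),
        Subgroup.relIndex_bot_left]
    rw [h3] at h2; exact h2.symm
  set q := Nat.card (Cfsg.oddCore (G ⧸ Z))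
  have hq : Odd q := odd_card_oddCore
  -- the kernel of raising to the odd part
  let K : Subgroup G :=
    { carrier := {x | x ∈ M ∧ x ^ q = 1}
      one_mem' := ⟨one_mem _, one_pow _⟩
      mul_mem' := fun {x y} hx hy => ?_
      inv_mem' := fun {x} hx => ⟨inv_mem hx.1, by rw [inv_pow, hx.2, inv_one]⟩ }
  swap
  · obtain ⟨C, hC⟩ := Subgroup.exists_right_complement'_of_coprime (N := Z.subgroupOf M) (by
      rw [Nat.card_congr (Subgroup.subgroupOfEquivOfLe hZM).toEquiv, Nat.card_zpowers, hz,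
        Nat.coprime_two_left]
      have h2 := Subgroup.card_mul_index (Z.subgroupOf M)
      rw [Nat.card_congr (Subgroup.subgroupOfEquivOfLe hZM).toEquiv, Nat.card_zpowers, hz, hcard] at h2
      rwa [Nat.eq_of_mul_eq_mul_left two_pos h2])
    have hCq : Nat.card C = q := by
      have h := hC.card_mul
      rw [Nat.card_congr (Subgroup.subgroupOfEquivOfLe hZM).toEquiv, Nat.card_zpowers, hz, hcard] at h
      exact Nat.eq_of_mul_eq_mul_left two_pos h
    have key : ∀ x : G, x ∈ M → x ^ q = 1 → ∃ c ∈ C, (c : G) = x := by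
      intro x hxM hxq
      obtain ⟨⟨⟨a, ha⟩, ⟨c, hcC⟩⟩, he⟩ := hC.2 ⟨x, hxM⟩
      refine ⟨c, hcC, ?_⟩
      have he' : (a : G) * (c : G) = x := congrArg Subtype.val he
      have hcq : (c : G) ^ q = 1 := by
        have := pow_card_eq_one' (x := (⟨c, hcC⟩ : C))
        rw [hCq] at this
        exact congrArg (fun t : C => ((t : M) : G)) this
      have haz : (a : G) ∈ Z := ha
      have hac : Commute (a : G) (c : G) :=
        (Subgroup.mem_center_iff.1 (Subgroup.zpowers_le.2 hc haz) _).symm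
      rw [← he', hac.mul_pow, hcq, mul_one] at hxq
      have ha2 : orderOf (a : G) ∣ 2 := hz ▸ orderOf_dvd_of_mem_zpowers haz
      have haq : orderOf (a : G) ∣ q := orderOf_dvd_of_pow_eq_one hxq
      have : orderOf (a : G) = 1 := Nat.eq_one_of_dvd_coprimes (Nat.coprime_two_left.2 hq) ha2 haq
      rw [← he', orderOf_eq_one_iff.1 this, one_mul]
    obtain ⟨c, hcC, rfl⟩ := key x hx.1 hx.2
    obtain ⟨d, hdC, rfl⟩ := key y hy.1 hy.2
    refine ⟨mul_mem c.2 d.2, ?_⟩
    have := pow_card_eq_one' (x := (⟨c * d, mul_mem hcC hdC⟩ : C))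
    rw [hCq] at this
    exact congrArg (fun t : C => ((t : M) : G)) this
  have hKn : K.Normal := ⟨fun x hx g => ⟨Subgroup.Normal.conj_mem inferInstance x hx.1 g, by
    rw [conj_pow, hx.2, mul_one, mul_inv_cancel]⟩⟩
  have hKo : Odd (Nat.card K) := by
    rw [← Nat.not_even_iff_odd, even_iff_two_dvd]
    intro h
    obtain ⟨x, hx⟩ := exists_prime_orderOf_dvd_card' 2 h
    have h1 : orderOf (x : G) ∣ q := orderOf_dvd_of_pow_eq_one x.2.2
    rw [Subgroup.orderOf_coe, hx] at h1
    exact Nat.not_even_iff_odd.2 hq (even_iff_two_dvd.2 h1)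
  have hK1 : K = ⊥ := le_bot_iff.1 (hO ▸ le_oddCore hKn hKo)
  rw [Subgroup.eq_bot_iff_forall]
  intro y hy
  obtain ⟨x, rfl⟩ := QuotientGroup.mk'_surjective Z y
  have hxM : x ∈ M := hy
  have h2q : x ^ (2 * q) = 1 := by
    have := pow_card_eq_one' (x := (⟨x, hxM⟩ : M))
    rw [hcard] at this
    exact congrArg Subtype.val this
  have hx2 : x ^ 2 ∈ K := ⟨pow_mem hxM 2, by rw [← pow_mul, h2q]⟩
  rw [hK1, Subgroup.mem_bot] at hx2
  obtain ⟨j, hj⟩ := hq
  have hyq : (QuotientGroup.mk' Z) x ^ q = 1 :=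
    congrArg Subtype.val (pow_card_eq_one' (x := (⟨_, hy⟩ : Cfsg.oddCore (G ⧸ Z))))
  rw [hj, pow_succ, pow_mul, ← map_pow, hx2, map_one, one_pow, one_mul] at hyq
  exact hyq

/-- A weakly closed element has no other conjugate with which it generates a 2-group. -/
theorem eq_of_mem_pGroup (S : Sylow 2 G) {x : G}
    (hwc : ∀ g : G, g * x * g⁻¹ ∈ S → g * x * g⁻¹ = x) {g : G} {Q : Subgroup G}
    (hQ : IsPGroup 2 Q) (h1 : x ∈ Q) (h2 : g * x * g⁻¹ ∈ Q) : g * x * g⁻¹ = x := by
  obtain ⟨T, hT⟩ := hQ.exists_le_sylow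
  obtain ⟨h, rfl⟩ := MulAction.exists_smul_eq G S T
  have hin : ∀ w ∈ Q, h⁻¹ * w * h ∈ S := by
    intro w hw
    have h2 := hT hw
    change w ∈ (S : Subgroup G).map (MulAut.conj h).toMonoidHom at h2
    obtain ⟨p, hp, rfl⟩ := Subgroup.mem_map.1 h2
    have hp' : p ∈ S := hp
    simpa [MulAut.conj_apply, mul_assoc] using hp'
  have f0 := hwc h⁻¹ (by simpa using hin _ h1)
  have f1 := hwc (h⁻¹ * g) (by simpa [mul_assoc] using hin _ h2)
  rw [inv_inv] at f0
  calc g * x * g⁻¹ = h * ((h⁻¹ * g) * x * (h⁻¹ * g)⁻¹) * h⁻¹ := by group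
    _ = h * x * h⁻¹ := by rw [f1]
    _ = h * (h⁻¹ * x * h) * h⁻¹ := by rw [f0]
    _ = x := by group

theorem weaklyClosed_central (hZ : Holds.{u}) : ∀ (n : ℕ) (G : Type u) [Group G] [Finite G]
    (S : Sylow 2 G) (x : G), orderOf x ≤ n → x ∈ S → Cfsg.oddCore G = ⊥ →
    (∀ g : G, g * x * g⁻¹ ∈ S → g * x * g⁻¹ = x) → x ∈ Subgroup.center G := by
  intro n
  induction n with
  | zero => intro G _ _ S x h; exact absurd (orderOf_pos x) (by omega)
  | succ n ih =>
    intro G _ _ S x hxn hxS hO hwc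
    rcases eq_or_ne x 1 with rfl | hx1
    · exact one_mem _
    have hxc : ∀ s ∈ S, s * x * s⁻¹ = x := fun s hs => hwc s (mul_mem (mul_mem hs hxS) (inv_mem hs))
    obtain ⟨k, hk⟩ := IsPGroup.iff_orderOf.1 S.isPGroup' ⟨x, hxS⟩
    rw [Subgroup.orderOf_mk] at hk
    obtain ⟨j, rfl⟩ : ∃ j, k = j + 1 := Nat.exists_eq_add_one.2 (by
      rcases Nat.eq_zero_or_pos k with h | h
      · rw [h, pow_zero, orderOf_eq_one_iff] at hk; exact absurd hk hx1
      · exact h)
    set z := x ^ 2 ^ j with hzdef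
    have hz : orderOf z = 2 := by
      rw [hzdef, orderOf_pow' _ (by positivity), hk,
        Nat.gcd_eq_right (pow_dvd_pow 2 j.le_succ), Nat.pow_div j.le_succ two_pos,
        show j + 1 - j = 1 by omega, pow_one]
    have hzS : z ∈ S := pow_mem hxS _
    obtain ⟨N, hN, hNo, hNc⟩ := hZ G S z hz hzS (fun g hg => by
      set z' := g * z * g⁻¹ with hz'
      set C := Subgroup.centralizer ({z'} : Set G) with hC
      have hxC : x ∈ C := Subgroup.mem_centralizer_singleton_iff.2 (by
        have := hxc _ hg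
        calc x * z' = (z' * x * z'⁻¹) * z' := by rw [this]
          _ = z' * x := by group)
      have hxgC : g * x * g⁻¹ ∈ C := Subgroup.mem_centralizer_singleton_iff.2 (by
        rw [hz', hzdef]
        calc g * x * g⁻¹ * (g * x ^ 2 ^ j * g⁻¹) = g * (x * x ^ 2 ^ j) * g⁻¹ := by group
          _ = g * (x ^ 2 ^ j * x) * g⁻¹ := by rw [← pow_succ', pow_succ]
          _ = g * x ^ 2 ^ j * g⁻¹ * (g * x * g⁻¹) := by group)
      have hp : ∀ y : C, orderOf (y : G) = 2 ^ (j + 1) → IsPGroup 2 (Subgroup.zpowers y) := fun y hy =>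
        IsPGroup.of_card (n := j + 1) (by rw [Nat.card_zpowers, ← Subgroup.orderOf_coe, hy])
      have hord : orderOf (g * x * g⁻¹) = 2 ^ (j + 1) := by
        rw [← hk]; exact orderOf_injective (MulAut.conj g).toMonoidHom (MulAut.conj g).injective x
      obtain ⟨T, hT⟩ := (hp ⟨x, hxC⟩ hk).exists_le_sylow
      obtain ⟨T', hT'⟩ := (hp ⟨_, hxgC⟩ hord).exists_le_sylow
      obtain ⟨c, hc⟩ := MulAction.exists_smul_eq C T' T
      have hmem : c * ⟨_, hxgC⟩ * c⁻¹ ∈ T := by
        rw [← hc]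
        exact Subgroup.mem_map_of_mem _ (hT' (Subgroup.mem_zpowers _))
      have heq := eq_of_mem_pGroup S hwc (g := (c : G) * g) (T.isPGroup'.map C.subtype)
        ⟨_, hT (Subgroup.mem_zpowers _), rfl⟩ ⟨_, hmem, by simp [mul_assoc]⟩
      have hcz : (c : G) * z' = z' * c := Subgroup.mem_centralizer_singleton_iff.1 c.2
      calc z' = (c : G) * z' * (c : G)⁻¹ := by rw [hcz, mul_inv_cancel_right]
        _ = ((c : G) * g) * z * ((c : G) * g)⁻¹ := by rw [hz']; group
        _ = z := by rw [hzdef, ← conj_pow, heq])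
    have hzc : z ∈ Subgroup.center G := by
      rw [Subgroup.mem_center_iff]
      intro g
      have h := le_oddCore hN hNo (hNc g)
      rw [hO, Subgroup.mem_bot] at h
      calc g * z = (z * g * z⁻¹ * g⁻¹) * g * z := by rw [h, one_mul]
        _ = z * g := by group
    haveI hZn : (Subgroup.zpowers z).Normal := ⟨fun y hy g => by
      rwa [Subgroup.mem_center_iff.1 (Subgroup.zpowers_le.2 hzc hy) g, mul_inv_cancel_right]⟩
    set π := QuotientGroup.mk' (Subgroup.zpowers z) with hπ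
    have hsurj : Function.Surjective π := QuotientGroup.mk'_surjective _
    have hord : orderOf (π x) ≤ n := by
      have h1 : (π x) ^ 2 ^ j = 1 := by
        rw [← map_pow]; exact (QuotientGroup.eq_one_iff _).2 (Subgroup.mem_zpowers _)
      have h2 := Nat.le_of_dvd (by positivity) (orderOf_dvd_of_pow_eq_one h1)
      have h3 : 2 ^ j < 2 ^ (j + 1) := Nat.pow_lt_pow_right one_lt_two (by omega)
      omega
    have hmemS : ∀ y : G, π y ∈ (S : Subgroup G).map π → y ∈ S := by
      rintro y ⟨s, hs, hsy⟩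
      have h1 : s⁻¹ * y ∈ Subgroup.zpowers z := QuotientGroup.eq.1 hsy
      have := mul_mem (show s ∈ S from hs) ((Subgroup.zpowers_le.2 hzS) h1)
      simpa using this
    have hcen := ih (G ⧸ Subgroup.zpowers z) (S.mapSurjective hsurj) (π x) hord
      (Subgroup.mem_map_of_mem π hxS) (oddCore_quotient_central hz hzc hO) (fun g hg => by
        obtain ⟨g, rfl⟩ := hsurj g
        rw [← map_inv, ← map_mul, ← map_mul] at hg ⊢
        rw [hwc g (hmemS _ hg)])
    rw [Subgroup.mem_center_iff]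
    intro g
    have h1 : π (g * x * g⁻¹) = π x := by
      rw [map_mul, map_mul, map_inv, Subgroup.mem_center_iff.1 hcen (π g), mul_inv_cancel_right]
    have h2 := hwc g (hmemS _ (h1 ▸ Subgroup.mem_map_of_mem π hxS))
    calc g * x = g * x * g⁻¹ * g := by group
      _ = x * g := by rw [h2]

/-- `Z(F_S(G)) = S ∩ Z*(G)`. -/
theorem fusion_center (hZ : Holds.{u}) (S : Sylow 2 G) :
    (Cfsg.groupFusionSystem (S : Subgroup G)).center =
      (S : Subgroup G) ⊓ (Subgroup.center (G ⧸ Cfsg.oddCore G)).comap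
        (QuotientGroup.mk' (Cfsg.oddCore G)) := by
  haveI hn : (Cfsg.oddCore G).Normal := CfsgLib.Fus.normal_pPrimeCore 2
  set π := QuotientGroup.mk' (Cfsg.oddCore G) with hπ
  have hsurj : Function.Surjective π := QuotientGroup.mk'_surjective _
  have hinjp : ∀ (T : Subgroup G), IsPGroup 2 T → ∀ a b : G, a ∈ T → b ∈ T → π a = π b → a = b := by
    intro T hT a b ha hb h
    have h1 : a⁻¹ * b ∈ Cfsg.oddCore G := QuotientGroup.eq.1 h
    obtain ⟨k, hk⟩ := IsPGroup.iff_orderOf.1 hT ⟨_, mul_mem (inv_mem ha) hb⟩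
    rw [Subgroup.orderOf_mk] at hk
    have h2 : orderOf (a⁻¹ * b) ∣ Nat.card (Cfsg.oddCore G) := Subgroup.orderOf_dvd_natCard _ h1
    have h3 : orderOf (a⁻¹ * b) = 1 := Nat.eq_one_of_dvd_coprimes
      ((Nat.coprime_two_left.2 odd_card_oddCore).pow_left k) hk.dvd h2
    exact inv_mul_eq_one.1 (orderOf_eq_one_iff.1 h3)
  have hinj := hinjp (S : Subgroup G) S.isPGroup'
  apply le_antisymm
  · refine sSup_le fun Q hQ => ?_
    intro x hx
    refine ⟨hQ.1 hx, ?_⟩
    show π x ∈ Subgroup.center _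
    have hwc : ∀ g : G, g * x * g⁻¹ ∈ S → g * x * g⁻¹ = x := by
      intro g hg
      have hle : Subgroup.zpowers x ≤ (S : Subgroup G) := Subgroup.zpowers_le.2 (hQ.1 hx)
      let φ : Subgroup.zpowers x →* G :=
        (MulAut.conj g).toMonoidHom.comp (Subgroup.zpowers x).subtype
      have hφ : φ ∈ (Cfsg.groupFusionSystem (S : Subgroup G)).Hom (Subgroup.zpowers x) := by
        refine ⟨hle, fun y => ?_, g, fun y => rfl⟩
        obtain ⟨y, m, rfl⟩ := y
        show g * x ^ m * g⁻¹ ∈ S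
        rw [← conj_zpow]
        exact Subgroup.zpow_mem (S : Subgroup G) hg m
      obtain ⟨ψ, -, h1, h2⟩ := hQ.2 _ φ hφ
      exact (h1 ⟨x, Subgroup.mem_zpowers x⟩).symm.trans (h2 ⟨x, hx⟩)
    refine weaklyClosed_central hZ _ _ (S.mapSurjective hsurj) (π x) le_rfl
      (Subgroup.mem_map_of_mem π (hQ.1 hx)) (CfsgLib.Fus.pPrimeCore_quotient_eq_bot 2) ?_
    intro g hg
    obtain ⟨g, rfl⟩ := hsurj g
    rw [← map_inv, ← map_mul, ← map_mul] at hg ⊢
    obtain ⟨s, hs, hse⟩ := hg
    -- `s` and the conjugate of `x` differ by an odd element, so they are conjugate by one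
    have hs' : IsPGroup 2 (Subgroup.zpowers (g * x * g⁻¹)) :=
      (S.isPGroup'.to_le (Subgroup.zpowers_le.2 (hQ.1 hx))).map (MulAut.conj g).toMonoidHom |>.to_le
        (Subgroup.zpowers_le.2 ⟨x, Subgroup.mem_zpowers x, rfl⟩)
    have hsup : g * x * g⁻¹ ∈ (S : Subgroup G) ⊔ Cfsg.oddCore G := by
      have h1 : s⁻¹ * (g * x * g⁻¹) ∈ Cfsg.oddCore G := QuotientGroup.eq.1 hse
      have := mul_mem (Subgroup.mem_sup_left (T := Cfsg.oddCore G) hs) (Subgroup.mem_sup_right h1)
      simpa using this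
    set U := (S : Subgroup G) ⊔ Cfsg.oddCore G
    obtain ⟨T, hT⟩ := (hs'.comap_subtype (K := U)).exists_le_sylow
    obtain ⟨u, hu⟩ := MulAction.exists_smul_eq U T (S.subtype le_sup_left)
    have hum : u * ⟨g * x * g⁻¹, hsup⟩ * u⁻¹ ∈ S.subtype (le_sup_left : (S : Subgroup G) ≤ U) := by
      rw [← hu]
      exact Subgroup.mem_map_of_mem _ (hT (Subgroup.mem_zpowers _))
    have hum' : (u : G) * (g * x * g⁻¹) * (u : G)⁻¹ ∈ (S : Subgroup G) := hum
    have h3 := hwc ((u : G) * g) (by
      show (u : G) * g * x * ((u : G) * g)⁻¹ ∈ (S : Subgroup G)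
      simpa [mul_assoc] using hum')
    obtain ⟨a, ha, o, ho, hao⟩ := Subgroup.mem_sup_of_normal_right.1 u.2
    have hax : a * x * a⁻¹ = x :=
      hwc a (mul_mem (mul_mem (ha : a ∈ S) (hQ.1 hx)) (inv_mem (ha : a ∈ S)))
    have hπo : π o = 1 := (QuotientGroup.eq_one_iff o).2 ho
    have h4 : π a * π (g * x * g⁻¹) * (π a)⁻¹ = π x := by
      have h6 := congrArg π h3
      rw [← hao] at h6
      simp only [map_mul, map_inv, hπo, mul_one, mul_inv_rev] at h6
      rw [← h6]
      simp only [map_mul, map_inv, mul_assoc]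
      simp
    have h5 : π a * π x * (π a)⁻¹ = π x := by rw [← map_inv, ← map_mul, ← map_mul, hax]
    exact mul_left_cancel (mul_right_cancel (h4.trans h5.symm))
  · apply le_sSup
    refine ⟨inf_le_left, fun P φ hφ => ?_⟩
    obtain ⟨hP, hφS, g, hg⟩ := hφ
    set R := (S : Subgroup G) ⊓ (Subgroup.center (G ⧸ Cfsg.oddCore G)).comap π
    -- adjust `g` so that it centralizes `R`
    have hRc : ∀ q ∈ R, ∀ s ∈ (S : Subgroup G), s * q * s⁻¹ = q := by
      intro q hq s hs
      refine hinj _ _ (mul_mem (mul_mem hs hq.1) (inv_mem hs)) hq.1 ?_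
      rw [map_mul, map_mul, map_inv, Subgroup.mem_center_iff.1 hq.2 (π s), mul_inv_cancel_right]
    have hRnorm : IsPGroup 2 R := S.isPGroup'.to_le inf_le_left
    set K := (R ⊔ Cfsg.oddCore G) ⊓ Subgroup.centralizer (φ.range : Set G)
    have hπR : ∀ r ∈ R, π (g * r * g⁻¹) = π r := by
      intro r hr
      rw [map_mul, map_mul, map_inv, Subgroup.mem_center_iff.1 hr.2 (π g), mul_inv_cancel_right]
    have hR1 : R ≤ K := by
      refine le_inf le_sup_left fun r hr => Subgroup.mem_centralizer_iff.2 ?_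
      rintro _ ⟨p, rfl⟩
      have := hRc r hr (φ p) (hφS p)
      calc φ p * r = (φ p * r * (φ p)⁻¹) * φ p := by group
        _ = r * φ p := by rw [this]
    have hR2 : R.map (MulAut.conj g).toMonoidHom ≤ K := by
      rintro _ ⟨r, hr, rfl⟩
      refine Subgroup.mem_inf.2 ⟨?_, Subgroup.mem_centralizer_iff.2 ?_⟩
      · have h1 : r⁻¹ * (g * r * g⁻¹) ∈ Cfsg.oddCore G := QuotientGroup.eq.1 (hπR r hr).symm
        have := mul_mem (Subgroup.mem_sup_left (T := Cfsg.oddCore G) hr) (Subgroup.mem_sup_right h1)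
        simpa using this
      · rintro _ ⟨p, rfl⟩
        rw [hg]
        have := hRc r hr _ (hP p.2)
        show g * (p : G) * g⁻¹ * (g * r * g⁻¹) = g * r * g⁻¹ * (g * (p : G) * g⁻¹)
        calc g * (p : G) * g⁻¹ * (g * r * g⁻¹) = g * (((p : G) * r * (p : G)⁻¹) * p) * g⁻¹ := by group
          _ = g * r * g⁻¹ * (g * (p : G) * g⁻¹) := by rw [this]; group
    obtain ⟨T, hT⟩ := (hRnorm.comap_subtype (K := K)).exists_le_sylow
    obtain ⟨T', hT'⟩ := ((hRnorm.map (MulAut.conj g).toMonoidHom).comap_subtype (K := K)).exists_le_sylow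
    obtain ⟨c, hc⟩ := MulAction.exists_smul_eq K T' T
    have hTR : (T : Subgroup K).map K.subtype ≤ R := by
      rintro _ ⟨t, ht, rfl⟩
      obtain ⟨r, hr, o, ho, hro⟩ := Subgroup.mem_sup_of_normal_right.1 t.2.1
      have hrT : r ∈ (T : Subgroup K).map K.subtype :=
        ⟨⟨r, hR1 hr⟩, hT (show (⟨r, hR1 hr⟩ : K) ∈ R.comap K.subtype from hr), rfl⟩
      have h2 : π r = π (t : G) := by
        rw [← hro, map_mul, show π o = 1 from (QuotientGroup.eq_one_iff o).2 ho, mul_one]
      rw [show K.subtype t = r from (hinjp _ (T.isPGroup'.map K.subtype) r t hrT ⟨t, ht, rfl⟩ h2).symm]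
      exact hr
    have hfix : ∀ r ∈ R, (c : G) * g * r * ((c : G) * g)⁻¹ = r := by
      intro r hr
      have hm : (⟨g * r * g⁻¹, hR2 ⟨r, hr, rfl⟩⟩ : K) ∈ (T' : Subgroup K) :=
        hT' (show g * r * g⁻¹ ∈ R.map (MulAut.conj g).toMonoidHom from ⟨r, hr, rfl⟩)
      have hm2 : c * ⟨g * r * g⁻¹, hR2 ⟨r, hr, rfl⟩⟩ * c⁻¹ ∈ (T : Subgroup K) := by
        rw [← hc]; exact Subgroup.mem_map_of_mem _ hm
      have hin : (c : G) * g * r * ((c : G) * g)⁻¹ ∈ R :=
        hTR ⟨_, hm2, by simp [mul_assoc]⟩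
      refine hinj _ _ hin.1 hr.1 ?_
      rw [map_mul _ _ ((c : G) * g)⁻¹, map_mul _ _ r, map_inv,
        Subgroup.mem_center_iff.1 hr.2 (π ((c : G) * g)), mul_inv_cancel_right]
    have hfixP : ∀ p : P, (c : G) * g * p * ((c : G) * g)⁻¹ = φ p := by
      intro p
      have := Subgroup.mem_centralizer_iff.1 c.2.2 (φ p) ⟨p, rfl⟩
      calc (c : G) * g * p * ((c : G) * g)⁻¹ = (c : G) * (g * p * g⁻¹) * (c : G)⁻¹ := by group
        _ = (φ p * c) * (c : G)⁻¹ := by rw [this, hg]
        _ = φ p := by group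
    refine ⟨(MulAut.conj ((c : G) * g)).toMonoidHom.comp (P ⊔ R).subtype,
      ⟨sup_le hP inf_le_left, ?_, _, fun _ => rfl⟩, fun p => hfixP p, fun r => hfix r r.2⟩
    intro x
    have hle : P ⊔ R ≤ (S : Subgroup G).comap (MulAut.conj ((c : G) * g)).toMonoidHom :=
      sup_le (fun p hp => by
          show (c : G) * g * p * ((c : G) * g)⁻¹ ∈ S
          rw [hfixP ⟨p, hp⟩]; exact hφS _)
        (fun r hr => by
          show (c : G) * g * r * ((c : G) * g)⁻¹ ∈ S
          rw [hfix r hr]; exact hr.1)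
    exact hle x.2

/-- Two conjugate involutions with product of odd prime power order multiply into the `p`-core. -/
theorem prod_mem_pCore (hZ : Holds.{u}) {p : ℕ} (hp : p.Prime) (hp2 : p ≠ 2) (d : G)
    (hd : orderOf d = 2)
    (hprod : ∀ a ∈ conjugatesOf d, ∀ b ∈ conjugatesOf d, ∃ k : ℕ, orderOf (a * b) = p ^ k) :
    ∀ a ∈ conjugatesOf d, ∀ b ∈ conjugatesOf d, a * b ∈ Cfsg.pCore p G := by
  have := Fact.mk hp
  haveI hnO : (Cfsg.oddCore G).Normal := CfsgLib.Fus.normal_pPrimeCore 2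
  have hodd : ∀ k, Odd (p ^ k) := fun k => (hp.odd_of_ne_two hp2).pow
  have hiso : Cfsg.IsIsolated d := by
    intro g hg
    obtain ⟨k, hk⟩ := hprod d (mem_conjugatesOf_self) (g * d * g⁻¹) (isConj_iff.2 ⟨g, rfl⟩)
    have h2 : (d * (g * d * g⁻¹)) ^ 2 = 1 := by
      rw [pow_two, hg.symm.mul_mul_mul_comm, invol_mul_self hd, invol_mul_self (invol_conj hd g),
        one_mul]
    have h1 : orderOf (d * (g * d * g⁻¹)) = 1 := Nat.eq_one_of_dvd_coprimes
      (Nat.coprime_two_left.2 (hodd k)) (orderOf_dvd_of_pow_eq_one h2) hk.dvd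
    rw [orderOf_eq_one_iff] at h1
    rw [eq_inv_of_mul_eq_one_right h1, invol_inv hd]
  set K := Cfsg.oddCore G with hK
  set O := Cfsg.pCore p G
  haveI hnP : O.Normal := CfsgLib.Fus.normal_pCore p
  have hcomm := fun g => of_isolated hZ hd hiso g
  -- every conjugate is conjugate under `K`
  have hKconj : ∀ g : G, ∃ k ∈ K, k * d * k⁻¹ = g * d * g⁻¹ := by
    intro g
    obtain ⟨k, hk, -, -, he⟩ := rep_exists hd (invol_conj hd g) (isolated_odd' hd hiso g)
    have h1 := inv_mem (hcomm g)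
    rw [show (d * g * d⁻¹ * g⁻¹)⁻¹ = g * d * g⁻¹ * d⁻¹ by group, invol_inv hd] at h1
    exact ⟨k, Subgroup.zpowers_le.2 h1 hk, he⟩
  have hinvp : ∀ k ∈ K, d * k * d⁻¹ = k⁻¹ → ∃ i, orderOf k = p ^ i := by
    intro k hk hkd
    obtain ⟨i, hi⟩ := hprod (k * d * k⁻¹) (isConj_iff.2 ⟨k, rfl⟩) d mem_conjugatesOf_self
    rw [sq_of_inverted hd hkd, mul_assoc, invol_mul_self hd, mul_one] at hi
    have hko : Odd (orderOf k) :=
      odd_card_oddCore.of_dvd_nat (Subgroup.orderOf_dvd_natCard _ hk)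
    rw [(Nat.coprime_two_right.2 hko).orderOf_pow] at hi
    exact ⟨i, hi⟩
  set A := Subgroup.zpowers d with hA
  have hAK : A ≤ Subgroup.normalizer (K : Set G) := fun a _ => by
    rw [Subgroup.normalizer_eq_top]; trivial
  have hcop : (Nat.card A).Coprime (Nat.card K) := by
    rw [hA, Nat.card_zpowers, hd, Nat.coprime_two_left]; exact odd_card_oddCore
  have hsolA : Group.IsSolvable A ∨ Group.IsSolvable K := Or.inl (by
    letI : CommGroup A := IsMulCommutative.instCommGroup
    infer_instance)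
  set C := Subgroup.centralizer ({d} : Set G) ⊓ K with hC
  -- the invariant Sylow subgroups for the other primes centralize `d`
  have hq : ∀ q : ℕ, q.Prime → q ≠ p → ∀ i, q ^ i ∣ Nat.card K → q ^ i ∣ Nat.card C := by
    intro q hqp hne i hi
    have := Fact.mk hqp
    obtain ⟨Q, hQ⟩ := CfsgLib.Solv.exists_invariant_sylow (p := q) hAK hcop hsolA
    have hle : (Q : Subgroup K).map K.subtype ≤ C := by
      rintro _ ⟨x, hx, rfl⟩
      refine ⟨Subgroup.mem_centralizer_singleton_iff.2 ?_, x.2⟩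
      set y := (x : G)⁻¹ * (d * x * d⁻¹) with hy
      have hyQ : y ∈ (Q : Subgroup K).map K.subtype :=
        mul_mem (inv_mem ⟨x, hx, rfl⟩)
          ((Subgroup.mem_normalizer_iff.1 (hQ (Subgroup.mem_zpowers d)) _).1 ⟨x, hx, rfl⟩)
      have hyK : y ∈ K := Subgroup.map_subtype_le _ hyQ
      have hdd : d * d = 1 := invol_mul_self hd
      have hyd : d * y * d⁻¹ = y⁻¹ := by
        rw [hy, invol_inv hd]
        calc d * ((x : G)⁻¹ * (d * x * d)) * d = d * (x : G)⁻¹ * d * x * (d * d) := by group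
          _ = ((x : G)⁻¹ * (d * x * d⁻¹))⁻¹ := by rw [hdd, mul_one]; group; simp [zpow_neg, invol_inv hd, mul_assoc]
          _ = _ := by rw [invol_inv hd]
      obtain ⟨a, ha⟩ := hinvp y hyK hyd
      obtain ⟨b, hb⟩ := IsPGroup.iff_orderOf.1 (Q.isPGroup'.map K.subtype) ⟨y, hyQ⟩
      rw [Subgroup.orderOf_mk] at hb
      have h1 : orderOf y = 1 := Nat.eq_one_of_dvd_coprimes
        (Nat.coprime_pow_primes _ _ hp hqp (Ne.symm hne)) ha.dvd hb.dvd
      rw [orderOf_eq_one_iff, hy, inv_mul_eq_one] at h1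
      show (x : G) * d = d * x
      calc (x : G) * d = d * x * d⁻¹ * d := by rw [← h1]
        _ = d * x := by group
    refine dvd_trans ?_ (Subgroup.card_dvd_of_le hle)
    rw [Subgroup.card_map_of_injective Subtype.val_injective, Q.card_eq_multiplicity]
    exact pow_dvd_pow q ((hqp.pow_dvd_iff_le_factorization Nat.card_pos.ne').1 hi)
  obtain ⟨P, hP⟩ := CfsgLib.Solv.exists_invariant_sylow (p := p) hAK hcop hsolA
  set P' := (P : Subgroup K).map K.subtype with hP'
  have hP'K : P' ≤ K := Subgroup.map_subtype_le _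
  have hcardP : Nat.card P' = p ^ (Nat.card K).factorization p := by
    rw [hP', Subgroup.card_map_of_injective Subtype.val_injective, P.card_eq_multiplicity]
  -- `K = P C`
  have hfac : ∀ k ∈ K, ∃ x ∈ P', ∃ c ∈ C, k = x * c := by
    have hCK : C ≤ K := inf_le_right
    let f : P' × C → K := fun t => ⟨t.1 * t.2, mul_mem (hP'K t.1.2) (hCK t.2.2)⟩
    suffices Function.Surjective f by
      intro k hk
      obtain ⟨⟨x, c⟩, hxc⟩ := this ⟨k, hk⟩
      exact ⟨x, x.2, c, c.2, (congrArg Subtype.val hxc).symm⟩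
    have hindex : Nat.card K ∣ Nat.card P' * Nat.card C := by
      rw [← Nat.factorization_le_iff_dvd Nat.card_pos.ne' (Nat.mul_pos Nat.card_pos Nat.card_pos).ne', Finsupp.le_def]
      intro q
      by_cases hqp : q.Prime
      · rw [← hqp.pow_dvd_iff_le_factorization (Nat.mul_pos Nat.card_pos Nat.card_pos).ne']
        by_cases he : q = p
        · subst he; exact Dvd.dvd.mul_right hcardP.symm.dvd _
        · exact Dvd.dvd.mul_left (hq q hqp he _ (Nat.ordProj_dvd _ q)) _
      · simp [Nat.factorization_eq_zero_of_not_prime _ hqp]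
    -- count cosets of `C ∩ P`
    intro k
    set CP := (P'.subgroupOf K) with hCP
    have hrel : (C.subgroupOf K).index ≤ (C.subgroupOf P').index := by
      have h1 := Subgroup.card_mul_index (C.subgroupOf K)
      rw [Nat.card_congr (Subgroup.subgroupOfEquivOfLe hCK).toEquiv] at h1
      have h2 := Subgroup.card_mul_index (C.subgroupOf P')
      have h3 : Nat.card (C.subgroupOf P') ∣ p ^ (Nat.card C).factorization p := by
        have hle := Subgroup.card_comap_dvd_of_injective C P'.subtype P'.subtype_injective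
        obtain ⟨b, hb⟩ := IsPGroup.iff_card.1 ((P.isPGroup'.map K.subtype).to_subgroup (C.subgroupOf P'))
        change Nat.card (C.subgroupOf P') ∣ _ at hle
        rw [show Nat.card (C.subgroupOf P') = p ^ b from hb] at hle ⊢
        exact pow_dvd_pow p ((hp.pow_dvd_iff_le_factorization Nat.card_pos.ne').1 hle)
      -- `|K : C|` is at most the p-part
      have h4 : (C.subgroupOf K).index * p ^ (Nat.card C).factorization p ≤ Nat.card P' := by
        apply Nat.le_of_dvd Nat.card_pos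
        have h6 : Nat.card C * (C.subgroupOf K).index ∣ Nat.card C * Nat.card P' := by
          rw [h1, mul_comm]; exact hindex
        have hidx : (C.subgroupOf K).index ∣ Nat.card P' :=
          Nat.dvd_of_mul_dvd_mul_left Nat.card_pos h6
        obtain ⟨i, hi, hie⟩ := (Nat.dvd_prime_pow hp).1 (hcardP ▸ hidx)
        rw [hie, hcardP, ← pow_add]
        apply pow_dvd_pow
        have h7 : (Nat.card C * (C.subgroupOf K).index).factorization p = (Nat.card K).factorization p := by
          rw [h1]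
        rw [Nat.factorization_mul Nat.card_pos.ne' Subgroup.index_ne_zero_of_finite, Finsupp.add_apply,
          hie, hp.factorization_pow, Finsupp.single_eq_same] at h7
        omega
      have h5 : 0 < Nat.card (C.subgroupOf P') := Nat.card_pos
      have h6 := Nat.le_of_dvd (pow_pos hp.pos _) h3
      nlinarith
    let F : P' ⧸ C.subgroupOf P' → K ⧸ C.subgroupOf K :=
      Quotient.map' (fun x => ⟨x, hP'K x.2⟩) (fun a b h => by
        rw [QuotientGroup.leftRel_apply] at h ⊢; exact h)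
    have hFinj : Function.Injective F := by
      intro a b
      induction a using Quotient.inductionOn'
      induction b using Quotient.inductionOn'
      intro h
      exact Quotient.sound' (QuotientGroup.leftRel_apply.2
        (QuotientGroup.leftRel_apply.1 (Quotient.eq''.1 h) : _))
    have hbij : Function.Surjective F :=
      (hFinj.bijective_of_nat_card_le hrel).2
    obtain ⟨q, hq'⟩ := hbij (Quotient.mk'' k)
    induction q using Quotient.inductionOn' with
    | _ x =>
      have h1 : ((⟨x, hP'K x.2⟩ : K)⁻¹ * k) ∈ C.subgroupOf K :=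
        QuotientGroup.leftRel_apply.1 (Quotient.exact' hq')
      refine ⟨⟨x, ⟨_, h1⟩⟩, Subtype.ext ?_⟩
      simp [f]
  -- conjugates under `K` are conjugates under `P`
  set D := {v | ∃ x ∈ P', x * d * x⁻¹ = v} with hD
  have hDstable : ∀ k ∈ K, ∀ v ∈ D, k * v * k⁻¹ ∈ D := by
    rintro k hk v ⟨x, hx, rfl⟩
    obtain ⟨y, hy, c, hc, hyc⟩ := hfac _ (mul_mem hk (hP'K hx))
    refine ⟨y, hy, ?_⟩
    have hcd : c * d = d * c := Subgroup.mem_centralizer_singleton_iff.1 hc.1
    calc y * d * y⁻¹ = y * (d * c) * c⁻¹ * y⁻¹ := by group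
      _ = (y * c) * d * (y * c)⁻¹ := by rw [← hcd]; group
      _ = k * (x * d * x⁻¹) * k⁻¹ := by rw [← hyc]; group
  set L := Subgroup.closure ((fun v => v * d) '' D) with hL
  have hLP : L ≤ P' := by
    rw [hL, Subgroup.closure_le]
    rintro _ ⟨_, ⟨x, hx, rfl⟩, rfl⟩
    show x * d * x⁻¹ * d ∈ P'
    have h1 : d * x⁻¹ * d⁻¹ ∈ P' :=
      (Subgroup.mem_normalizer_iff.1 (hP (Subgroup.mem_zpowers d)) _).1 (inv_mem hx)
    rw [invol_inv hd] at h1
    simpa [mul_assoc] using mul_mem hx h1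
  have hLK : L ≤ K := hLP.trans hP'K
  have hdD : d ∈ D := ⟨1, one_mem _, by simp⟩
  have hLn : (L.subgroupOf K).Normal := by
    refine ⟨fun n hn k => ?_⟩
    have : L ≤ L.comap (MulAut.conj (k : G)).toMonoidHom := by
      rw [hL, Subgroup.closure_le]
      rintro _ ⟨v, hv, rfl⟩
      show (k : G) * (v * d) * (k : G)⁻¹ ∈ L
      have e : (k : G) * (v * d) * (k : G)⁻¹ =
          ((k : G) * v * (k : G)⁻¹ * d) * ((k : G) * d * (k : G)⁻¹ * d)⁻¹ := by
        rw [mul_inv_rev, invol_inv hd, invol_inv (invol_conj hd _)]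
        calc (k : G) * (v * d) * (k : G)⁻¹ = (k : G) * v * (k : G)⁻¹ * 1 * ((k : G) * d * (k : G)⁻¹) := by group
          _ = _ := by rw [← invol_mul_self hd]; group
      rw [e]
      exact mul_mem (Subgroup.subset_closure ⟨_, hDstable k k.2 v hv, rfl⟩)
        (inv_mem (Subgroup.subset_closure ⟨_, hDstable k k.2 d hdD, rfl⟩))
    exact this hn
  have hLO : L ≤ O := by
    have h1 : L.subgroupOf K ≤ Cfsg.pCore p K :=
      CfsgLib.Fus.le_pCore hLn ((P.isPGroup'.map K.subtype).to_le hLP |>.comap_subtype)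
    haveI := CfsgLib.Fus.characteristic_pCore (G := K) p
    have h2 : (Cfsg.pCore p K).map K.subtype ≤ O :=
      CfsgLib.Fus.le_pCore ConjAct.normal_of_characteristic_of_normal
        (CfsgLib.Fus.isPGroup_pCore.map _)
    intro x hx
    exact h2 ⟨⟨x, hLK hx⟩, h1 hx, rfl⟩
  intro a ha b hb
  obtain ⟨g, rfl⟩ := isConj_iff.1 ha
  obtain ⟨g', rfl⟩ := isConj_iff.1 hb
  obtain ⟨k, hk, hke⟩ := hKconj g
  obtain ⟨k', hk', hke'⟩ := hKconj g'
  have h1 : g * d * g⁻¹ * d ∈ L := Subgroup.subset_closure ⟨_, hke ▸ hDstable k hk d hdD, rfl⟩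
  have h2 : g' * d * g'⁻¹ * d ∈ L := Subgroup.subset_closure ⟨_, hke' ▸ hDstable k' hk' d hdD, rfl⟩
  apply hLO
  have := mul_mem h1 (inv_mem h2)
  rw [mul_inv_rev, invol_inv hd, invol_inv (invol_conj hd g')] at this
  have e : g * d * g⁻¹ * d * (d * (g' * d * g'⁻¹)) = g * d * g⁻¹ * (d * d) * (g' * d * g'⁻¹) := by
    group
  rw [e, invol_mul_self hd, mul_one] at this
  exact this

/-- The derived subgroup of a group generated by such a class is nilpotent. -/
theorem nilpotent_commutator (hZ : Holds.{u}) (p : ℕ) (hp : p.Prime) (hodd : p ≠ 2) {D : Set G}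
    (hinv : ∀ d ∈ D, orderOf d = 2) (hconj : ∃ d ∈ D, D = conjugatesOf d)
    (hgen : Subgroup.closure D = ⊤)
    (hprod : ∀ x ∈ D, ∀ y ∈ D, x ≠ y → ∃ k : ℕ, orderOf (x * y) = p ^ k) :
    Group.IsNilpotent ↥(commutator G) := by
  obtain ⟨d, hdD, rfl⟩ := hconj
  have := Fact.mk hp
  have hd := hinv d hdD
  have hall := prod_mem_pCore hZ hp hodd d hd (fun a ha b hb => by
    by_cases h : a = b
    · exact ⟨0, by rw [h, invol_mul_self (hinv b hb), orderOf_one, pow_zero]⟩
    · exact hprod a ha b hb h)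
  haveI hnP : (Cfsg.pCore p G).Normal := CfsgLib.Fus.normal_pCore p
  have hle : commutator G ≤ Cfsg.pCore p G := by
    set π := QuotientGroup.mk' (Cfsg.pCore p G)
    have hcyc : ∀ y, π y ∈ Subgroup.zpowers (π d) := by
      intro y
      have : Subgroup.closure (conjugatesOf d) ≤ (Subgroup.zpowers (π d)).comap π := by
        rw [Subgroup.closure_le]
        intro a ha
        show π a ∈ Subgroup.zpowers (π d)
        have h1 : π (a * d) = 1 := (QuotientGroup.eq_one_iff _).2 (hall a ha d mem_conjugatesOf_self)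
        rw [map_mul, mul_eq_one_iff_eq_inv] at h1
        rw [h1]; exact inv_mem (Subgroup.mem_zpowers _)
      exact this (hgen ▸ Subgroup.mem_top y)
    rw [commutator_def, Subgroup.commutator_le]
    intro a _ b _
    apply (QuotientGroup.eq_one_iff _).1
    change π (a * b * a⁻¹ * b⁻¹) = 1
    obtain ⟨i, hi⟩ := hcyc a
    obtain ⟨j, hj⟩ := hcyc b
    have hc : Commute (π a) (π b) := by rw [← hi, ← hj]; exact (Commute.refl _).zpow_zpow i j
    simp only [map_mul, map_inv, hc.eq, mul_inv_cancel_right, mul_inv_cancel]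
  exact (CfsgLib.Fus.isPGroup_pCore.to_le hle).isNilpotent

end CfsgLib.Base.ZStar
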