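import Cfsg.Agent.Base.ZStar.App

/-!
Sylow 2-intersections contained in a centre force a cyclic characteristic involution into Z*.
-/

set_option autoImplicit false

namespace CfsgLib.Base.ZStar

open CfsgLib.Inv

universe u

variable {G : Type u} [Group G] [Finite G]

/-- An element fixed by the normalizer of `S` has no other conjugate in the centre of `S`. -/
theorem eq_of_mem_center (S : Sylow 2 G) {c : G} (hc : c ∈ Subgroup.centralizer (S : Set G))
    (hN : ∀ n ∈ Subgroup.normalizer (S : Set G), n * c * n⁻¹ = c) {g : G}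
    (hg : g * c * g⁻¹ ∈ Subgroup.centralizer (S : Set G)) : g * c * g⁻¹ = c := by
  obtain ⟨n, hn, he⟩ := S.conj_eq_normalizer_conj_of_mem_centralizer c g⁻¹ hc (by simpa using hg)
  rw [inv_inv] at he
  rw [he]
  simpa using hN n⁻¹ (inv_mem hn)

theorem char_cyclic_fixed (S : Sylow 2 G) (C : Subgroup ↥(S : Subgroup G)) (hCc : IsCyclic ↥C)
    (hCh : C.Characteristic) (c : ↥(S : Subgroup G)) (hc : c ∈ C) (hc2 : orderOf c = 2)
    (n : G) (hn : n ∈ Subgroup.normalizer (S : Set G)) : n * (c : G) * n⁻¹ = c := by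
  classical
  let σ : MulAut ↥(S : Subgroup G) := (S : Subgroup G).normalizerMonoidHom ⟨n, hn⟩
  have hσ : ((σ c : ↥(S : Subgroup G)) : G) = n * (c : G) * n⁻¹ := rfl
  have hmem : σ c ∈ C :=
    (Subgroup.characteristic_iff_map_le.1 hCh σ) (Subgroup.mem_map_of_mem _ hc)
  have hord : orderOf (σ c) = 2 := by
    exact (orderOf_injective σ.toMonoidHom σ.injective c).trans hc2
  have heq : σ c = c := by
    have : Fintype C := Fintype.ofFinite C
    have hd := Subgroup.orderOf_dvd_natCard C hc
    rw [hc2, Nat.card_eq_fintype_card] at hd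
    have hcard := IsCyclic.card_orderOf_eq_totient (α := C) (d := 2) hd
    rw [Nat.totient_two, Finset.card_eq_one] at hcard
    obtain ⟨a, ha⟩ := hcard
    have e1 : (⟨c, hc⟩ : C) = a := Finset.mem_singleton.1 (ha ▸ Finset.mem_filter.2
      ⟨Finset.mem_univ _, by rw [Subgroup.orderOf_mk, hc2]⟩)
    have e2 : (⟨σ c, hmem⟩ : C) = a := Finset.mem_singleton.1 (ha ▸ Finset.mem_filter.2
      ⟨Finset.mem_univ _, by rw [Subgroup.orderOf_mk, hord]⟩)
    exact congrArg Subtype.val (e2.trans e1.symm)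
  rw [← hσ, heq]

theorem intersections_central (hZ : Holds.{u})
    (hCI : ∀ S T : Sylow 2 G, S ≠ T → ∃ U : Sylow 2 G,
      (S : Subgroup G) ⊓ (T : Subgroup G) ≤
        (Subgroup.center ↥(U : Subgroup G)).map (U : Subgroup G).subtype)
    (S : Sylow 2 G) (C : Subgroup ↥(S : Subgroup G)) (hCc : IsCyclic ↥C) (hCh : C.Characteristic)
    (c : ↥(S : Subgroup G)) (hc : c ∈ C) (hc2 : orderOf c = 2) :
    ∀ g : G, (QuotientGroup.mk (s := Cfsg.oddCore G) (g * (c : G) * g⁻¹)) =
      QuotientGroup.mk (s := Cfsg.oddCore G) (c : G) := by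
  haveI hn : (Cfsg.oddCore G).Normal := CfsgLib.Fus.normal_pPrimeCore 2
  have hcG : orderOf (c : G) = 2 := by rw [Subgroup.orderOf_coe, hc2]
  have hfix := char_cyclic_fixed S C hCc hCh c hc hc2
  have hcen : (c : G) ∈ Subgroup.centralizer (S : Set G) := Subgroup.mem_centralizer_iff.2
    fun s hs => by
      calc s * (c : G) = (s * (c : G) * s⁻¹) * s := by group
        _ = (c : G) * s := by rw [hfix s (Subgroup.le_normalizer hs)]
  have hiso : Cfsg.IsIsolated (c : G) := isolated_of_sylow S hcG c.2 fun g hg => by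
    set c' := g * (c : G) * g⁻¹ with hc'
    by_cases hzS : c' ∈ Subgroup.centralizer (S : Set G)
    · exact eq_of_mem_center S hcen hfix hzS
    set D := Subgroup.centralizer ({c'} : Set G) with hD
    have hg' : ((g • S : Sylow 2 G) : Subgroup G) ≤ D := by
      intro x hx
      change x ∈ (S : Subgroup G).map (MulAut.conj g).toMonoidHom at hx
      obtain ⟨s, hs, rfl⟩ := Subgroup.mem_map.1 hx
      rw [Subgroup.mem_centralizer_singleton_iff]
      have := Subgroup.mem_centralizer_iff.1 hcen s hs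
      show g * s * g⁻¹ * c' = c' * (g * s * g⁻¹)
      rw [hc']
      calc g * s * g⁻¹ * (g * (c : G) * g⁻¹) = g * (s * c) * g⁻¹ := by group
        _ = g * ((c : G) * s) * g⁻¹ := by rw [this]
        _ = g * (c : G) * g⁻¹ * (g * s * g⁻¹) := by group
    -- a Sylow subgroup `R ≤ D` containing `C_S(c')`
    set T := (S : Subgroup G) ⊓ D
    obtain ⟨R', hR'⟩ := ((S.isPGroup'.to_le (inf_le_left : T ≤ S)).comap_subtype (K := D)).exists_le_sylow
    obtain ⟨R, hR⟩ := (R'.isPGroup'.map D.subtype).exists_le_sylow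
    have hTR : T ≤ (R' : Subgroup D).map D.subtype := fun x hx =>
      ⟨⟨x, hx.2⟩, hR' (show (⟨x, hx.2⟩ : D) ∈ T.comap D.subtype from hx), rfl⟩
    have hRD : (R : Subgroup G) ≤ D := by
      have h1 : Nat.card R = Nat.card ((R' : Subgroup D).map D.subtype) := by
        refine le_antisymm ?_ (Subgroup.card_le_of_le hR)
        obtain ⟨h, hh⟩ := MulAction.exists_smul_eq D R' ((g • S : Sylow 2 G).subtype hg')
        rw [Subgroup.card_map_of_injective Subtype.val_injective,
          Nat.card_congr (Sylow.equiv R' ((g • S : Sylow 2 G).subtype hg')).toEquiv,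
          Sylow.coe_subtype, Nat.card_congr (Subgroup.subgroupOfEquivOfLe hg').toEquiv,
          Nat.card_congr (Sylow.equiv R (g • S)).toEquiv]
      rw [← Subgroup.eq_of_le_of_card_ge hR h1.le]
      exact Subgroup.map_subtype_le _
    have hc'D : c' ∈ D := Subgroup.mem_centralizer_singleton_iff.2 rfl
    have hcD : (c : G) ∈ D :=
      Subgroup.mem_centralizer_singleton_iff.2 (Subgroup.mem_centralizer_iff.1 hcen c' hg).symm
    have hRS : R ≠ S := fun h => hzS (Subgroup.mem_centralizer_iff.2 fun s hs => by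
      exact Subgroup.mem_centralizer_singleton_iff.1 (hRD (h ▸ hs)))
    obtain ⟨U, hU⟩ := hCI R S hRS
    have hUc : ∀ x ∈ (R : Subgroup G) ⊓ S, x ∈ Subgroup.centralizer (U : Set G) := by
      intro x hx
      obtain ⟨z, hz, rfl⟩ := hU hx
      exact Subgroup.mem_centralizer_iff.2 fun s hs =>
        congrArg Subtype.val (Subgroup.mem_center_iff.1 hz ⟨s, hs⟩)
    have h1 := hUc _ ⟨hR (hTR ⟨c.2, hcD⟩), c.2⟩
    have h2 := hUc _ ⟨hR (hTR ⟨hg, hc'D⟩), hg⟩
    -- move `U` to `S` by an element fixing `c`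
    set E := Subgroup.centralizer ({(c : G)} : Set G)
    have hUE : (U : Subgroup G) ≤ E := fun x hx =>
      Subgroup.mem_centralizer_singleton_iff.2 (Subgroup.mem_centralizer_iff.1 h1 x hx)
    have hSE : (S : Subgroup G) ≤ E := fun x hx =>
      Subgroup.mem_centralizer_singleton_iff.2 (Subgroup.mem_centralizer_iff.1 hcen x hx)
    obtain ⟨e, he⟩ := MulAction.exists_smul_eq E (U.subtype hUE) (S.subtype hSE)
    have hec : (e : G) * c * (e : G)⁻¹ = c := by
      rw [Subgroup.mem_centralizer_singleton_iff.1 e.2, mul_inv_cancel_right]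
    have h3 : (e : G) * c' * (e : G)⁻¹ ∈ Subgroup.centralizer (S : Set G) := by
      refine Subgroup.mem_centralizer_iff.2 fun s hs => ?_
      have hsm : (⟨s, hSE hs⟩ : E) ∈ (S.subtype hSE : Subgroup E) := hs
      rw [← he] at hsm
      obtain ⟨r, hr, hre⟩ := hsm
      have hr' : (r : G) ∈ (U : Subgroup G) := hr
      have hre' : (e : G) * r * (e : G)⁻¹ = s := congrArg Subtype.val hre
      rw [← hre']
      calc (e : G) * r * (e : G)⁻¹ * ((e : G) * c' * (e : G)⁻¹) = (e : G) * (r * c') * (e : G)⁻¹ := by group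
        _ = (e : G) * (c' * r) * (e : G)⁻¹ := by rw [Subgroup.mem_centralizer_iff.1 h2 _ hr']
        _ = _ := by group
    rw [hc'] at h3
    have h4 := eq_of_mem_center S hcen hfix (g := (e : G) * g) (by simpa [mul_assoc] using h3)
    calc g * (c : G) * g⁻¹ = (e : G)⁻¹ * (((e : G) * g) * c * ((e : G) * g)⁻¹) * e := by group
      _ = (e : G)⁻¹ * ((e : G) * c * (e : G)⁻¹) * e := by rw [h4, hec]
      _ = c := by group
  intro g
  rw [QuotientGroup.eq]
  have h := of_isolated hZ hcG hiso g
  rw [invol_inv hcG] at h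
  have h' := Subgroup.Normal.mem_comm hn (by simpa [mul_assoc] using h :
    ((c : G) * (g * c * g⁻¹)) ∈ Cfsg.oddCore G)
  rw [mul_inv_rev, mul_inv_rev, inv_inv, invol_inv hcG]
  simpa [mul_assoc] using h'

end CfsgLib.Base.ZStar
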