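import Cfsg.Agent.Base.ZStar.Intersections

/-!
A Sylow 2-subgroup with a quaternion direct factor.
-/

set_option autoImplicit false

namespace CfsgLib.Base.ZStar

open CfsgLib.Inv QuaternionGroup

universe u

section
variable {N : ℕ} [NeZero N]

theorem natCast_half_ne_zero : ((N : ℕ) : ZMod (2 * N)) ≠ 0 := by
  rw [Ne, ZMod.natCast_eq_zero_iff]
  intro h
  have hN : 0 < N := Nat.pos_of_ne_zero (NeZero.ne N)
  have := Nat.le_of_dvd hN h
  omega

theorem two_mul_eq_zero {i : ZMod (2 * N)} (h : i + i = 0) : i = 0 ∨ i = (N : ZMod (2 * N)) := by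
  have : NeZero (2 * N) := ⟨Nat.mul_ne_zero two_ne_zero (NeZero.ne N)⟩
  have hi := ZMod.natCast_zmod_val i
  rw [← hi, ← Nat.cast_add, ZMod.natCast_eq_zero_iff] at h
  have hlt := i.val_lt
  obtain ⟨c, hc⟩ := h
  have hN : 0 < N := Nat.pos_of_ne_zero (NeZero.ne N)
  rcases c with _ | _ | c
  · left; rw [← hi, show i.val = 0 by omega, Nat.cast_zero]
  · right; rw [← hi, show i.val = N by omega]
  · nlinarith

theorem quat_invol {x : QuaternionGroup N} (h : x * x = 1) : x = 1 ∨ x = a (N : ZMod (2 * N)) := by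
  rcases x with i | i
  · rw [a_mul_a, one_def, a.injEq] at h
    rcases two_mul_eq_zero h with rfl | rfl
    · exact Or.inl rfl
    · exact Or.inr rfl
  · rw [xa_mul_xa, one_def, a.injEq] at h
    exact absurd (by simpa using h) (natCast_half_ne_zero (N := N))

theorem quat_center (hN : 2 ≤ N) {x : QuaternionGroup N} (h : ∀ y, x * y = y * x) :
    x = 1 ∨ x = a (N : ZMod (2 * N)) := by
  rcases x with i | i
  · have h1 := h (xa 0)
    rw [a_mul_xa, xa_mul_a, xa.injEq] at h1
    rcases two_mul_eq_zero (i := i) (by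
      calc i + i = (0 + i) - (0 - i) := by ring
        _ = 0 := by rw [h1, sub_self]) with rfl | rfl
    · exact Or.inl rfl
    · exact Or.inr rfl
  · exfalso
    have h1 := h (a 1)
    rw [a_mul_xa, xa_mul_a, xa.injEq] at h1
    have h2 : ((2 : ℕ) : ZMod (2 * N)) = 0 := by
      push_cast
      linear_combination h1
    rw [ZMod.natCast_eq_zero_iff] at h2
    exact absurd (Nat.le_of_dvd two_pos h2) (by omega)

theorem hom_injective_of_invol {H : Type*} [Group H] {k : ℕ} (hk : N = 2 ^ k)
    (f : QuaternionGroup N →* H) (h : f (a (N : ZMod (2 * N))) ≠ 1) : Function.Injective f := by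
  rw [← MonoidHom.ker_eq_bot_iff]
  by_contra hne
  have hp : IsPGroup 2 (QuaternionGroup N) := IsPGroup.of_card (n := k + 2) (by
    rw [Nat.card_eq_fintype_card, QuaternionGroup.card, hk]; ring)
  have := Subgroup.nontrivial_iff_ne_bot _ |>.2 hne
  obtain ⟨m, hm, hm'⟩ := (hp.to_subgroup f.ker).nontrivial_iff_card.1 this
  obtain ⟨x, hx⟩ := exists_prime_orderOf_dvd_card' (G := f.ker) 2 (hm' ▸ dvd_pow_self 2 hm.ne')
  have hx2 : (x : QuaternionGroup N) * x = 1 := by
    have := pow_orderOf_eq_one (x : QuaternionGroup N)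
    rwa [Subgroup.orderOf_coe, hx, pow_two] at this
  rcases quat_invol hx2 with h1 | h1
  · rw [← Subgroup.orderOf_coe, h1, orderOf_one] at hx; omega
  · exact h (h1 ▸ x.2)

/-- The key fact: an automorphism moving the involution of a quaternion direct factor moves it
into the other factor. -/
theorem factor_invol_fixed {k : ℕ} (hk : N = 2 ^ k) (hN : 2 ≤ N) {R : Type*} [Group R] [Finite R]
    (θ : MulAut (QuaternionGroup N × R)) :
    θ (a (N : ZMod (2 * N)), 1) = (a (N : ZMod (2 * N)), 1) ∨
      (θ (a (N : ZMod (2 * N)), 1)).1 = 1 := by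
  set zQ : QuaternionGroup N := a (N : ZMod (2 * N)) with hzQ
  have hzsq : zQ * zQ = 1 := by
    rw [hzQ, a_mul_a, one_def]; congr 1
    rw [← two_mul]; exact_mod_cast ZMod.natCast_self (2 * N)
  set f : QuaternionGroup N →* QuaternionGroup N :=
    (MonoidHom.fst _ _).comp (θ.toMonoidHom.comp (MonoidHom.inl _ _)) with hf
  set h : QuaternionGroup N →* R :=
    (MonoidHom.snd _ _).comp (θ.toMonoidHom.comp (MonoidHom.inl _ _)) with hh
  set g : R →* QuaternionGroup N :=
    (MonoidHom.fst _ _).comp (θ.toMonoidHom.comp (MonoidHom.inr _ _)) with hg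
  set ρ : R →* R :=
    (MonoidHom.snd _ _).comp (θ.toMonoidHom.comp (MonoidHom.inr _ _)) with hρ
  have e1 : ∀ q : QuaternionGroup N, θ (q, 1) = (f q, h q) := fun q => rfl
  have e2 : ∀ s : R, θ (1, s) = (g s, ρ s) := fun s => rfl
  rw [e1]
  have hfz : f zQ * f zQ = 1 := by rw [← map_mul, hzsq, map_one]
  rcases quat_invol hfz with h1 | h1
  · exact Or.inr h1
  by_cases hhz : h zQ = 1
  · left; rw [h1, hhz]
  exfalso
  have hzne : zQ ≠ 1 := by
    rw [hzQ, one_def, Ne, a.injEq]; exact natCast_half_ne_zero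
  have hfinj := hom_injective_of_invol hk f (by rw [h1]; exact hzne)
  have hhinj := hom_injective_of_invol hk h hhz
  have hfsur := Finite.injective_iff_surjective.1 hfinj
  have hcomm : ∀ q s, (f q * g s = g s * f q) ∧ (h q * ρ s = ρ s * h q) := by
    intro q s
    have hc : θ (q, 1) * θ (1, s) = θ (1, s) * θ (q, 1) := by rw [← map_mul, ← map_mul]; simp
    rw [e1, e2] at hc
    exact ⟨congrArg Prod.fst hc, congrArg Prod.snd hc⟩
  have hgim : ∀ s, g s = 1 ∨ g s = zQ := fun s => quat_center hN fun y => by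
    obtain ⟨q, rfl⟩ := hfsur y
    exact (hcomm q s).1.symm
  -- the kernel of `g`
  have hK : Nat.card R ≤ 2 * Nat.card g.ker := by
    rw [← Subgroup.index_mul_card g.ker, Subgroup.index_ker]
    refine Nat.mul_le_mul_right _ ?_
    rw [← SetLike.coe_sort_coe, Nat.card_coe_set_eq]
    refine le_trans (Set.ncard_le_ncard (t := {1, zQ}) ?_) (Set.ncard_insert_le _ _ |>.trans (by simp))
    rintro _ ⟨s, rfl⟩
    rcases hgim s with e | e <;> simp [e]
  let Φ : QuaternionGroup N × g.ker →* R :=
    { toFun := fun x => h x.1 * ρ x.2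
      map_one' := by simp
      map_mul' := fun x y => by
        have := (hcomm y.1 (x.2 : R)).2
        simp only [Prod.fst_mul, Prod.snd_mul, Subgroup.coe_mul, map_mul]
        calc h x.1 * h y.1 * (ρ x.2 * ρ y.2) = h x.1 * (h y.1 * ρ x.2) * ρ y.2 := by group
          _ = h x.1 * (ρ x.2 * h y.1) * ρ y.2 := by rw [this]
          _ = _ := by group }
  have hker : Nat.card Φ.ker ≤ 2 := by
    have hmem : ∀ x : Φ.ker, x.1.1 = 1 ∨ x.1.1 = zQ := by
      rintro ⟨⟨q, s⟩, hqs⟩
      refine quat_center hN fun y => hhinj ?_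
      have hqs' : h q * ρ s = 1 := hqs
      rw [map_mul, map_mul, eq_inv_of_mul_eq_one_left hqs']
      exact ((Commute.inv_right ((hcomm y (s : R)).2))).eq.symm
    have hρinj : ∀ s s' : g.ker, ρ s = ρ s' → s = s' := by
      intro s s' he
      refine Subtype.ext ?_
      have : θ (1, (s : R)) = θ (1, (s' : R)) := by
        rw [e2, e2, he, MonoidHom.mem_ker.1 s.2, MonoidHom.mem_ker.1 s'.2]
      exact congrArg Prod.snd (θ.injective this)
    let F : Φ.ker → Bool := fun x => decide (x.1.1 = 1)
    have hF : Function.Injective F := by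
      rintro ⟨⟨q, s⟩, hqs⟩ ⟨⟨q', s'⟩, hqs'⟩ he
      have hq : q = q' := by
        have he' : q = 1 ↔ q' = 1 := decide_eq_decide.1 he
        have h2 : q = 1 ∨ q = zQ := hmem ⟨⟨q, s⟩, hqs⟩
        have h3 : q' = 1 ∨ q' = zQ := hmem ⟨⟨q', s'⟩, hqs'⟩
        rcases h2 with h2 | h2
        · rw [h2, he'.1 h2]
        · rcases h3 with h3 | h3
          · exact absurd (he'.2 h3) (h2 ▸ hzne)
          · rw [h2, h3]
      subst hq
      have a1 : h q * ρ s = 1 := hqs
      have a2 : h q * ρ s' = 1 := hqs'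
      have := hρinj s s' (mul_left_cancel (a1.trans a2.symm))
      subst this; rfl
    refine (Nat.card_le_card_of_injective F hF).trans ?_
    simp
  have hcard : Nat.card (QuaternionGroup N × g.ker) ≤ 2 * Nat.card R := by
    rw [← Subgroup.index_mul_card Φ.ker, Subgroup.index_ker, mul_comm]
    exact Nat.mul_le_mul hker (Subgroup.card_le_card_group _)
  rw [Nat.card_prod, Nat.card_eq_fintype_card (α := QuaternionGroup N), QuaternionGroup.card] at hcard
  have : 0 < Nat.card g.ker := Nat.card_pos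
  nlinarith

end

variable {G : Type u} [Group G] [Finite G]

theorem not_simple_of_quaternion_factor (hZ : Holds.{u}) (S : Sylow 2 G) (Q R : Subgroup G)
    (hQR : Cfsg.IsInternalDirectProduct Q R (S : Subgroup G)) (n : ℕ) (hn : 1 ≤ n)
    (eQ : ↥Q ≃* QuaternionGroup (2 ^ n))
    (hR : ∀ r ∈ R, orderOf r = 2 → ∀ s ∈ R, r * s = s * r) : ¬ IsSimpleGroup G := by
  intro hsimp
  classical
  obtain ⟨hQS, hRS, hcomm, hinf, hsup⟩ := hQR
  have hN2 : 2 ≤ 2 ^ n := Nat.le_self_pow (by omega) 2
  have : NeZero (2 ^ n) := ⟨by positivity⟩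
  let mul' : QuaternionGroup (2 ^ n) × R →* (S : Subgroup G) :=
    MonoidHom.noncommCoprod ((Subgroup.inclusion hQS).comp eQ.symm.toMonoidHom)
      (Subgroup.inclusion hRS) (fun q r => Subtype.ext (hcomm _ (eQ.symm q).2 r r.2))
  have happ : ∀ q r, ((mul' (q, r) : ↥(S : Subgroup G)) : G) = (eQ.symm q : G) * (r : G) :=
    fun q r => rfl
  have hbij : Function.Bijective mul' := by
    refine ⟨(injective_iff_map_eq_one mul').2 ?_, ?_⟩
    · rintro ⟨q, r⟩ he
      have h1 : (eQ.symm q : G) * (r : G) = 1 := by rw [← happ, he]; rfl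
      have h2 : (r : G) ∈ Q ⊓ R := Subgroup.mem_inf.2 ⟨by
        rw [eq_inv_of_mul_eq_one_right h1]; exact inv_mem (eQ.symm q).2, r.2⟩
      rw [hinf, Subgroup.mem_bot] at h2
      rw [h2, mul_one] at h1
      have hr : r = 1 := Subtype.ext h2
      have hq : eQ.symm q = 1 := Subtype.ext h1
      rw [hr, (map_eq_one_iff _ eQ.symm.injective).1 hq]; rfl
    · rintro ⟨x, hx⟩
      have hle : (S : Subgroup G) ≤ ((S : Subgroup G).subtype.comp mul').range := by
        refine hsup.symm.le.trans ?_
        refine sup_le (fun q hq => ⟨(eQ ⟨q, hq⟩, 1), ?_⟩) (fun r hr => ⟨(1, ⟨r, hr⟩), ?_⟩)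
        · simp [happ]
        · simp [happ]
      obtain ⟨y, hy⟩ := hle hx
      exact ⟨y, Subtype.ext hy⟩
  let e := MulEquiv.ofBijective mul' hbij
  set zQ : QuaternionGroup (2 ^ n) := a ((2 ^ n : ℕ) : ZMod (2 * 2 ^ n)) with hzQ
  set T := QuaternionGroup (2 ^ n) × R
  set z : T := (zQ, 1)
  have hzne : zQ ≠ 1 := by rw [hzQ, one_def, Ne, a.injEq]; exact natCast_half_ne_zero
  have hz2 : zQ * zQ = 1 := by
    rw [hzQ, a_mul_a, one_def]; congr 1
    rw [← two_mul]; exact_mod_cast ZMod.natCast_self (2 * 2 ^ n)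
  have hzc : z ∈ Subgroup.center T := by
    rw [Subgroup.mem_center_iff]
    rintro ⟨q, r⟩
    refine Prod.ext ?_ (show r * (1 : R) = 1 * r by rw [mul_one, one_mul])
    show q * zQ = zQ * q
    rcases q with i | i
    · rw [hzQ, a_mul_a, a_mul_a, add_comm]
    · rw [hzQ, xa_mul_a, a_mul_xa]
      congr 1
      have h2 : ((2 ^ n : ℕ) : ZMod (2 * 2 ^ n)) + (2 ^ n : ℕ) = 0 := by
        rw [← two_mul]; exact_mod_cast ZMod.natCast_self (2 * 2 ^ n)
      linear_combination h2
  -- the orbit of `z` under the normalizer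
  let σ : Subgroup.normalizer ((S : Subgroup G) : Set G) →* MulAut ↥(S : Subgroup G) :=
    (S : Subgroup G).normalizerMonoidHom
  let τ : Subgroup.normalizer ((S : Subgroup G) : Set G) →* MulAut T :=
    { toFun := fun m => (e.trans (σ m)).trans e.symm
      map_one' := MulEquiv.ext fun x => by simp
      map_mul' := fun m m' => MulEquiv.ext fun x => by simp }
  have := Fintype.ofFinite (Subgroup.normalizer ((S : Subgroup G) : Set G))
  let O : Finset T := Finset.univ.image fun m => τ m z
  have hOc : ∀ x ∈ O, x ∈ Subgroup.center T := by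
    intro x hx
    obtain ⟨m, -, rfl⟩ := Finset.mem_image.1 hx
    exact (Subgroup.characteristic_iff_map_le.1 inferInstance (τ m)) (Subgroup.mem_map_of_mem _ hzc)
  letI : CommGroup (Subgroup.center T) := IsMulCommutative.instCommGroup
  let prodC : Subgroup.center T := ∏ x ∈ O.attach, ⟨x.1, hOc x.1 x.2⟩
  set v : T := (prodC : T) with hv
  have hOz : z ∈ O := Finset.mem_image.2 ⟨1, Finset.mem_univ _, by simp [τ]⟩
  have hO1 : ∀ x ∈ O, x ≠ z → x.1 = 1 := by
    intro x hx hne
    obtain ⟨m, -, rfl⟩ := Finset.mem_image.1 hx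
    rcases factor_invol_fixed (k := n) rfl hN2 (τ m) with h | h
    · exact absurd h hne
    · exact h
  have hv1 : v.1 = zQ := by
    let p : Subgroup.center T →* QuaternionGroup (2 ^ n) :=
      (MonoidHom.fst _ _).comp (Subgroup.center T).subtype
    let pc : Subgroup.center T →* Subgroup.center (QuaternionGroup (2 ^ n)) :=
      p.codRestrict _ fun x => Subgroup.mem_center_iff.2 fun q =>
        congrArg Prod.fst (Subgroup.mem_center_iff.1 x.2 (q, 1))
    letI : CommGroup (Subgroup.center (QuaternionGroup (2 ^ n))) := IsMulCommutative.instCommGroup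
    have h1 : pc prodC = pc ⟨z, hzc⟩ := by
      rw [map_prod, Finset.prod_eq_single ⟨z, hOz⟩]
      · intro x _ hne
        exact Subtype.ext (hO1 x.1 x.2 fun h => hne (Subtype.ext h))
      · simp
    exact congrArg Subtype.val h1
  have hpow : v * v = 1 := by
    have : prodC * prodC = 1 := by
      rw [← Finset.prod_mul_distrib]
      refine Finset.prod_eq_one fun x _ => Subtype.ext ?_
      obtain ⟨m, -, hm⟩ := Finset.mem_image.1 x.2
      show (x.1 : T) * x.1 = 1
      rw [← hm, ← map_mul]
      convert map_one (τ m)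
      exact Prod.ext hz2 (mul_one _)
    exact congrArg Subtype.val this
  have hfix : ∀ m, τ m v = v := by
    intro m
    let φ : Subgroup.center T →* Subgroup.center T :=
      ((τ m).toMonoidHom.comp (Subgroup.center T).subtype).codRestrict _ fun x =>
        (Subgroup.characteristic_iff_map_le.1 inferInstance (τ m)) (Subgroup.mem_map_of_mem _ x.2)
    have : φ prodC = prodC := by
      rw [map_prod]
      have hmemO : ∀ x : O, τ m x.1 ∈ O := fun x => by
        obtain ⟨m', -, hm'⟩ := Finset.mem_image.1 x.2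
        refine Finset.mem_image.2 ⟨m * m', Finset.mem_univ _, ?_⟩
        rw [map_mul, ← hm']; rfl
      have hinj : Function.Injective fun x : O => (⟨τ m x.1, hmemO x⟩ : O) := fun x y h =>
        Subtype.ext ((τ m).injective (congrArg Subtype.val h))
      exact Finset.prod_bijective _ (Finite.injective_iff_bijective.1 hinj)
        (fun _ => by simp) (fun _ _ => rfl)
    exact congrArg Subtype.val this
  set w : ↥(S : Subgroup G) := e v with hw
  have hw2 : orderOf (w : G) = 2 := by
    rw [Subgroup.orderOf_coe, invol_iff]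
    refine ⟨fun h => hzne ?_, by rw [hw, ← map_mul, hpow, map_one]⟩
    rw [hw, map_eq_one_iff _ e.injective] at h
    rw [← hv1, h]; rfl
  have hwcen : ∀ u : ↥(S : Subgroup G), orderOf u = 2 → (u : G) ∈ Subgroup.centralizer (S : Set G) := by
    intro u hu
    have hc : e.symm u ∈ Subgroup.center T := by
      have h2 : e.symm u * e.symm u = 1 := by rw [← map_mul, invol_mul_self hu, map_one]
      rw [Subgroup.mem_center_iff]
      rintro ⟨q, r⟩
      refine Prod.ext ?_ ?_
      · show q * (e.symm u).1 = (e.symm u).1 * q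
        rcases quat_invol (congrArg Prod.fst h2) with h | h
        · rw [h, one_mul, mul_one]
        · rw [h]; exact congrArg Prod.fst (Subgroup.mem_center_iff.1 hzc (q, r))
      · show r * (e.symm u).2 = (e.symm u).2 * r
        rcases eq_or_ne (e.symm u).2 1 with h | h
        · rw [h, one_mul, mul_one]
        · refine Subtype.ext (hR _ (e.symm u).2.2 ?_ r r.2).symm
          rw [Subgroup.orderOf_coe, invol_iff]
          exact ⟨h, congrArg Prod.snd h2⟩
    refine Subgroup.mem_centralizer_iff.2 fun s hs => ?_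
    have := congrArg e (Subgroup.mem_center_iff.1 hc (e.symm ⟨s, hs⟩))
    simpa using congrArg Subtype.val this
  have hN : ∀ m ∈ Subgroup.normalizer ((S : Subgroup G) : Set G), m * (w : G) * m⁻¹ = w := by
    intro m hm
    have h1 := congrArg e (hfix ⟨m, hm⟩)
    have h2 : σ ⟨m, hm⟩ w = w := by simpa [τ] using h1
    exact congrArg Subtype.val h2
  have hwiso : Cfsg.IsIsolated (w : G) := isolated_of_sylow S hw2 w.2 fun g hg =>
    eq_of_mem_center S (hwcen w (by rwa [Subgroup.orderOf_coe] at hw2)) hN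
      (hwcen ⟨_, hg⟩ (by rw [← Subgroup.orderOf_coe]; exact invol_conj hw2 g))
  haveI hn' : (Cfsg.oddCore G).Normal := CfsgLib.Fus.normal_pPrimeCore 2
  have hO : Cfsg.oddCore G = ⊥ := by
    rcases hn'.eq_bot_or_eq_top with h | h
    · exact h
    · exfalso
      have h2 : 2 ∣ Nat.card G := hw2 ▸ orderOf_dvd_natCard (w : G)
      have ho := odd_card_oddCore (G := G)
      rw [h, Subgroup.card_top] at ho
      exact Nat.not_even_iff_odd.2 ho (even_iff_two_dvd.2 h2)
  have hwG : (w : G) ∈ Subgroup.center G := by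
    rw [Subgroup.mem_center_iff]
    intro g
    have h := of_isolated hZ hw2 hwiso g
    rw [hO, Subgroup.mem_bot] at h
    calc g * (w : G) = ((w : G) * g * (w : G)⁻¹ * g⁻¹) * g * w := by rw [h, one_mul]
      _ = (w : G) * g := by group
  rcases (inferInstance : (Subgroup.center G).Normal).eq_bot_or_eq_top with h | h
  · rw [h, Subgroup.mem_bot] at hwG
    exact invol_ne_one hw2 hwG
  · have hc : ∀ x y : G, x * y = y * x := fun x y =>
      Subgroup.mem_center_iff.1 (h ▸ Subgroup.mem_top y) x
    have h1 : (a 1 : QuaternionGroup (2 ^ n)) * xa 0 = xa 0 * a 1 := by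
      apply eQ.symm.injective
      rw [map_mul, map_mul]
      exact Subtype.ext (hc _ _)
    rw [a_mul_xa, xa_mul_a, xa.injEq] at h1
    have h2 : ((2 : ℕ) : ZMod (2 * 2 ^ n)) = 0 := by push_cast; linear_combination -h1
    rw [ZMod.natCast_eq_zero_iff] at h2
    exact absurd (Nat.le_of_dvd two_pos h2) (by omega)

end CfsgLib.Base.ZStar
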