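import Cfsg.Agent.Base.ZStar.Main
import Cfsg.Agent.Base.ZStar.App
import Cfsg.Agent.Base.ZStar.Intersections
import Cfsg.Agent.Base.ZStar.QuaternionFactor

/-!
The Z* theorem in the form used by the applications.
-/

set_option autoImplicit false

namespace CfsgLib.Base.ZStar

universe u

theorem holds : Holds.{u} := fun G _ _ P v hv hvP h => zstar (G := G) P v hv hvP h

end CfsgLib.Base.ZStar
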