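import Cfsg.Prelude
import Cfsg.Agent.Base.ZStar.Holds
import Cfsg.Agent.Fus.CoreBasic
import Cfsg.Agent.Solv.PComplement
import Mathlib.GroupTheory.SemidirectProduct
import Mathlib.GroupTheory.SchurZassenhaus

/-!
Glauberman: in a group with abelian Sylow 2-subgroups and trivial odd core, an automorphism of
2-power order fixing a Sylow 2-subgroup elementwise is inner.
-/

set_option autoImplicit false
set_option linter.style.haveILetI false
set_option linter.unusedSectionVars false

namespace CfsgLib.Base.ZStar.AbelianAut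

open CfsgLib.Base.ZStar

universe u

/-- An element of an abelian Sylow 2-subgroup fixed by its normalizer is central. -/
theorem central_of_fixed : ∀ (k : ℕ) (H : Type u) [Group H] [Finite H],
    (∀ N : Subgroup H, N.Normal → Odd (Nat.card N) → N = ⊥) →
    ∀ (S : Sylow 2 H), IsMulCommutative (S : Subgroup H) → ∀ a ∈ S, orderOf a ∣ 2 ^ k →
    (∀ n ∈ Subgroup.normalizer ((S : Subgroup H) : Set H), n * a * n⁻¹ = a) →
    ∀ h : H, h * a * h⁻¹ = a := by
  intro k
  induction k with
  | zero =>
    intro H _ _ _ S _ a _ ha _ h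
    rw [pow_zero, Nat.dvd_one, orderOf_eq_one_iff] at ha
    rw [ha, mul_one, mul_inv_cancel]
  | succ k ih =>
    intro H _ _ hcore S hab a haS ha hfix h
    haveI := Fact.mk Nat.prime_two
    by_cases hk : orderOf a ∣ 2 ^ k
    · exact ih H hcore S hab a haS hk hfix h
    have hord : orderOf a = 2 ^ (k + 1) := by
      obtain ⟨i, hi, he⟩ := (Nat.dvd_prime_pow Nat.prime_two).1 ha
      rw [he]
      congr 1
      by_contra hne
      exact hk (he ▸ pow_dvd_pow 2 (by omega))
    set w := a ^ 2 ^ k with hw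
    have hwS : w ∈ S := (S : Subgroup H).pow_mem haS _
    have hw2 : orderOf w = 2 := by
      rw [hw, orderOf_pow' a (by positivity), hord, Nat.gcd_eq_right (pow_dvd_pow 2 (Nat.le_succ k)),
        pow_succ, Nat.mul_div_cancel_left _ (by positivity)]
    have hwfix : ∀ n ∈ Subgroup.normalizer ((S : Subgroup H) : Set H), n * w * n⁻¹ = w := by
      intro n hn
      rw [hw, ← conj_pow, hfix n hn]
    obtain ⟨N, hNn, hNo, hN⟩ := zstar (G := H) S w hw2 hwS fun g hg => by
      obtain ⟨n, hn, he⟩ := CfsgLib.Solv.exists_normalizer_conj_of_abelian_sylow S hab hwS hg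
      rw [← he, hwfix n hn]
    have hwc : ∀ g : H, g * w = w * g := by
      intro g
      have h1 := hN g
      rw [hcore N hNn hNo, Subgroup.mem_bot, mul_inv_eq_one, mul_inv_eq_iff_eq_mul] at h1
      exact h1.symm
    -- pass to the quotient
    set Z := Subgroup.zpowers w with hZ
    have hZc : ∀ z ∈ Z, ∀ g : H, g * z = z * g := by
      intro z hz g
      obtain ⟨i, rfl⟩ := Subgroup.mem_zpowers_iff.1 hz
      exact ((show Commute g w from hwc g).zpow_right i).eq
    haveI : Z.Normal := ⟨fun z hz g => by rwa [hZc z hz g, mul_inv_cancel_right]⟩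
    have hZcard : Nat.card Z = 2 := by rw [hZ, Nat.card_zpowers, hw2]
    have hZS : Z ≤ S := Subgroup.zpowers_le.2 hwS
    have hcore' : ∀ N' : Subgroup (H ⧸ Z), N'.Normal → Odd (Nat.card N') → N' = ⊥ := by
      intro N' hN'n hN'o
      haveI := hN'n
      set L := N'.comap (QuotientGroup.mk' Z) with hL
      have hZL : Z ≤ L := fun z hz => by
        rw [hL, Subgroup.mem_comap, QuotientGroup.mk'_apply, (QuotientGroup.eq_one_iff z).2 hz]
        exact one_mem _
      haveI : (Z.subgroupOf L).Normal := Subgroup.Normal.subgroupOf inferInstance L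
      have hidx : (Z.subgroupOf L).index = Nat.card N' := by
        let f : L →* N' := ((QuotientGroup.mk' Z).comp L.subtype).codRestrict N' fun x => x.2
        have hf : Function.Surjective f := by
          rintro ⟨q, hq⟩
          obtain ⟨g, rfl⟩ := QuotientGroup.mk'_surjective Z q
          exact ⟨⟨g, hq⟩, rfl⟩
        have hker : f.ker = Z.subgroupOf L := by
          ext x
          rw [MonoidHom.mem_ker, Subgroup.mem_subgroupOf, ← QuotientGroup.eq_one_iff]
          exact ⟨fun e => congrArg Subtype.val e, fun e => Subtype.ext e⟩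
        rw [← hker, Subgroup.index_ker, MonoidHom.range_eq_top.2 hf,
          Nat.card_congr Subgroup.topEquiv.toEquiv]
      have hZL2 : Nat.card (Z.subgroupOf L) = 2 := by
        rw [Nat.card_congr (Subgroup.subgroupOfEquivOfLe hZL).toEquiv, hZcard]
      obtain ⟨C, hC⟩ := Subgroup.exists_right_complement'_of_coprime (N := Z.subgroupOf L)
        (by rw [hZL2, hidx]; exact Nat.coprime_two_left.2 hN'o)
      have hCcard : Nat.card C = Nat.card N' := by rw [← hidx]; exact hC.symm.index_eq_card.symm
      set C' := C.map L.subtype with hC'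
      have hC'card : Nat.card C' = Nat.card N' := by
        rw [hC', Subgroup.card_map_of_injective L.subtype_injective, hCcard]
      have hodd : ∀ y ∈ L, y ^ Nat.card N' = 1 → y ∈ C' := by
        intro y hy hy1
        obtain ⟨⟨z, c⟩, hzc⟩ := hC.2 ⟨y, hy⟩
        have hzw : ((z : L) : H) ∈ Z := z.2
        have hye : y = ((z : L) : H) * ((c : L) : H) := (congrArg Subtype.val hzc).symm
        have hc1 : ((c : L) : H) ^ Nat.card N' = 1 := by
          rw [← hCcard]
          exact congrArg (fun q : C => ((q : L) : H)) (pow_card_eq_one' (x := c))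
        rw [hye, (show Commute ((z : L) : H) ((c : L) : H) from (hZc _ hzw _).symm).mul_pow, hc1,
          mul_one] at hy1
        have h2 : orderOf ((z : L) : H) ∣ Nat.gcd 2 (Nat.card N') := Nat.dvd_gcd
          (by rw [← hZcard]; exact Subgroup.orderOf_dvd_natCard _ hzw) (orderOf_dvd_of_pow_eq_one hy1)
        rw [Nat.coprime_iff_gcd_eq_one.1 (Nat.coprime_two_left.2 hN'o), Nat.dvd_one,
          orderOf_eq_one_iff] at h2
        rw [hye, h2, one_mul]
        exact ⟨c, c.2, rfl⟩
      have hC'n : C'.Normal := ⟨fun y hy g => by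
        have hyL : y ∈ L := by
          obtain ⟨c, -, rfl⟩ := hy
          exact c.2
        refine hodd _ ((inferInstance : L.Normal).conj_mem y hyL g) ?_
        rw [conj_pow, ← hC'card]
        have := congrArg Subtype.val (pow_card_eq_one' (x := (⟨y, hy⟩ : C')))
        rw [show y ^ Nat.card C' = 1 from this, mul_one, mul_inv_cancel]⟩
      have hbot := hcore C' hC'n (hC'card ▸ hN'o)
      rw [hbot, Subgroup.card_bot] at hC'card
      exact Subgroup.eq_bot_of_card_eq _ hC'card.symm
    set π := QuotientGroup.mk' Z with hπ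
    have hπs : Function.Surjective π := QuotientGroup.mk'_surjective Z
    set S' := S.mapSurjective hπs with hS'
    have hS'c : (S' : Subgroup (H ⧸ Z)) = (S : Subgroup H).map π := rfl
    have hab' : IsMulCommutative (S' : Subgroup (H ⧸ Z)) := by
      refine ⟨⟨fun x y => Subtype.ext ?_⟩⟩
      obtain ⟨s, hs, hse⟩ := (hS'c ▸ x.2 : (x : H ⧸ Z) ∈ (S : Subgroup H).map π)
      obtain ⟨t, ht, hte⟩ := (hS'c ▸ y.2 : (y : H ⧸ Z) ∈ (S : Subgroup H).map π)
      rw [Subgroup.coe_mul, Subgroup.coe_mul, ← hse, ← hte, ← map_mul, ← map_mul]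
      exact congrArg π (congrArg Subtype.val (hab.is_comm.comm ⟨s, hs⟩ ⟨t, ht⟩))
    have hmem : ∀ x : H, π x ∈ (S : Subgroup H).map π ↔ x ∈ S := by
      intro x
      rw [← Subgroup.mem_comap, Subgroup.comap_map_eq_self (by rw [hπ, QuotientGroup.ker_mk']; exact hZS)]
      exact Iff.rfl
    have hfix' : ∀ n ∈ Subgroup.normalizer ((S' : Subgroup (H ⧸ Z)) : Set (H ⧸ Z)),
        n * π a * n⁻¹ = π a := by
      intro n hn
      obtain ⟨m, rfl⟩ := hπs n
      have hm : m ∈ Subgroup.normalizer ((S : Subgroup H) : Set H) := by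
        rw [Subgroup.mem_normalizer_iff]
        intro x
        have h1 := Subgroup.mem_normalizer_iff.1 hn (π x)
        rw [← map_inv, ← map_mul, ← map_mul, hS'c, hmem, hmem] at h1
        exact h1
      rw [← map_inv, ← map_mul, ← map_mul, hfix m hm]
    have hord' : orderOf (π a) ∣ 2 ^ k := by
      refine orderOf_dvd_of_pow_eq_one ?_
      rw [← map_pow]
      exact (QuotientGroup.eq_one_iff _).2 (Subgroup.mem_zpowers w)
    have hcen := ih (H ⧸ Z) hcore' S' hab' (π a) ((hmem a).2 haS) hord' hfix'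
    -- at most two conjugates, an odd number
    set Ca := Subgroup.centralizer ({a} : Set H) with hCa
    have hSC : (S : Subgroup H) ≤ Ca := fun s hs => by
      rw [hCa, Subgroup.mem_centralizer_singleton_iff]
      exact congrArg Subtype.val (hab.is_comm.comm ⟨s, hs⟩ ⟨a, haS⟩)
    have hodd : Odd Ca.index := by
      refine Nat.odd_iff.2 (Nat.two_dvd_ne_zero.1 fun h2 => S.not_dvd_index ?_)
      exact h2.trans (Subgroup.index_dvd_of_le hSC)
    have hle : Ca.index ≤ 2 := by
      classical
      haveI := Fintype.ofFinite H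
      rw [Subgroup.index_eq_card]
      let f : H ⧸ Ca → ({a, w * a} : Finset H) := fun q =>
        ⟨q.out * a * q.out⁻¹, by
          have h1 := hcen (π q.out)
          rw [← map_inv, ← map_mul, ← map_mul, hπ, QuotientGroup.mk'_apply, QuotientGroup.mk'_apply,
            QuotientGroup.eq] at h1
          have h2 : (q.out * a * q.out⁻¹)⁻¹ * a = 1 ∨ (q.out * a * q.out⁻¹)⁻¹ * a = w := by
            obtain ⟨i, hi⟩ := Subgroup.mem_zpowers_iff.1 h1
            rw [← hi, ← zpow_mod_orderOf, hw2]
            rcases Int.emod_two_eq_zero_or_one i with e | e <;> simp [e]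
          rw [Finset.mem_insert, Finset.mem_singleton]
          rcases h2 with e | e
          · exact Or.inl (inv_mul_eq_one.1 e)
          · refine Or.inr ?_
            have hww : w * w = 1 := by rw [← sq, ← hw2, pow_orderOf_eq_one]
            rw [inv_mul_eq_iff_eq_mul, hwc] at e
            conv_rhs => arg 2; rw [e]
            rw [← mul_assoc, hww, one_mul]⟩
      have hf : Function.Injective f := by
        intro q r hqr
        have h1 := congrArg Subtype.val hqr
        rw [← QuotientGroup.out_eq' q, ← QuotientGroup.out_eq' r, QuotientGroup.eq]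
        refine Subgroup.mem_centralizer_singleton_iff.2 ?_
        simp only [f] at h1
        calc (q.out)⁻¹ * r.out * a = (q.out)⁻¹ * (r.out * a * (r.out)⁻¹) * r.out := by group
          _ = a * ((q.out)⁻¹ * r.out) := by rw [← h1]; group
      refine (Nat.card_le_card_of_injective f hf).trans ?_
      rw [Nat.card_eq_finsetCard]
      exact Finset.card_le_two
    have h1 : Ca = ⊤ := Subgroup.index_eq_one.1 (by obtain ⟨i, hi⟩ := hodd; omega)
    have h2 : h ∈ Ca := h1 ▸ Subgroup.mem_top h
    rw [hCa, Subgroup.mem_centralizer_singleton_iff] at h2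
    rw [h2, mul_inv_cancel_right]

/-- A fixed point of the normalizer over a given image in an abelian group. -/
theorem exists_fixed_lift {H : Type*} [Group H] [Finite H] (S : Sylow 2 H)
    (hab : IsMulCommutative (S : Subgroup H)) {x₀ : H} (hx₀ : x₀ ∈ (S : Subgroup H)) {A : Type*}
    [Group A] (hAcomm : ∀ a b : A, a * b = b * a) (r : H →* A) :
    ∃ a ∈ (S : Subgroup H), (∀ n ∈ Subgroup.normalizer ((S : Subgroup H) : Set H),
      n * a * n⁻¹ = a) ∧ r a = r x₀ := by
  classical
  haveI := Fact.mk Nat.prime_two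
  letI : CommGroup (S : Subgroup H) :=
    { (inferInstance : Group (S : Subgroup H)) with mul_comm := hab.is_comm.comm }
  set Nz := Subgroup.normalizer ((S : Subgroup H) : Set H) with hNz
  haveI := Fintype.ofFinite Nz
  let c : Nz → (S : Subgroup H) →* (S : Subgroup H) := fun n =>
    { toFun := fun s => ⟨(n : H) * s * (n : H)⁻¹, (Subgroup.mem_normalizer_iff.1 n.2 s).1 s.2⟩
      map_one' := Subtype.ext (by simp)
      map_mul' := fun s t => Subtype.ext (by simp [mul_assoc]) }
  let O : Finset (S : Subgroup H) := Finset.univ.image fun n : Nz => c n ⟨x₀, hx₀⟩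
  have hOinv : ∀ m : Nz, O.image (c m) = O := by
    intro m
    refine Finset.ext fun s => ?_
    simp only [O, Finset.mem_image, Finset.mem_univ, true_and]
    constructor
    · rintro ⟨_, ⟨n, rfl⟩, rfl⟩
      exact ⟨m * n, Subtype.ext (by simp [c, mul_assoc])⟩
    · rintro ⟨n, rfl⟩
      exact ⟨_, ⟨m⁻¹ * n, rfl⟩, Subtype.ext (by simp [c, mul_assoc])⟩
  have hcinj : ∀ m : Nz, Function.Injective (c m) := fun m s t h => by
    have h1 : (m : H) * s * (m : H)⁻¹ = (m : H) * t * (m : H)⁻¹ := congrArg Subtype.val h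
    exact Subtype.ext (mul_left_cancel (mul_right_cancel h1))
  have hOodd : Odd O.card := by
    let St : Subgroup Nz := (Subgroup.centralizer ({x₀} : Set H)).subgroupOf Nz
    have hSt : (S : Subgroup H).subgroupOf Nz ≤ St := fun n hn => by
      rw [Subgroup.mem_subgroupOf, Subgroup.mem_centralizer_singleton_iff]
      exact congrArg Subtype.val (hab.is_comm.comm ⟨(n : H), hn⟩ ⟨x₀, hx₀⟩)
    have hOc : O.card = St.index := by
      rw [Subgroup.index_eq_card, ← Nat.card_eq_finsetCard]
      refine (Nat.card_congr (Equiv.ofBijective (fun q : Nz ⧸ St => (⟨c q.out ⟨x₀, hx₀⟩,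
        Finset.mem_image.2 ⟨_, Finset.mem_univ _, rfl⟩⟩ : O)) ⟨?_, ?_⟩)).symm
      · intro q t hqr
        have h1 : (q.out : H) * x₀ * (q.out : H)⁻¹ = (t.out : H) * x₀ * (t.out : H)⁻¹ :=
          congrArg (fun s : O => ((s : (S : Subgroup H)) : H)) hqr
        rw [← QuotientGroup.out_eq' q, ← QuotientGroup.out_eq' t, QuotientGroup.eq,
          Subgroup.mem_subgroupOf, Subgroup.mem_centralizer_singleton_iff, Subgroup.coe_mul,
          Subgroup.coe_inv]
        calc (q.out : H)⁻¹ * t.out * x₀
            = (q.out : H)⁻¹ * ((t.out : H) * x₀ * (t.out : H)⁻¹) * t.out := by group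
          _ = x₀ * ((q.out : H)⁻¹ * t.out) := by rw [← h1]; group
      · rintro ⟨s, hs⟩
        obtain ⟨n, -, rfl⟩ := Finset.mem_image.1 hs
        refine ⟨(n : Nz ⧸ St), Subtype.ext (Subtype.ext ?_)⟩
        obtain ⟨t, ht⟩ : ∃ t : St, ((n : Nz ⧸ St)).out = n * t := QuotientGroup.mk_out_eq_mul St n
        have h2 : ((t : Nz) : H) * x₀ = x₀ * ((t : Nz) : H) :=
          Subgroup.mem_centralizer_singleton_iff.1 t.2
        show ((n : Nz ⧸ St).out : H) * x₀ * ((n : Nz ⧸ St).out : H)⁻¹ = (n : H) * x₀ * (n : H)⁻¹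
        rw [ht, Subgroup.coe_mul]
        calc (n : H) * (t : Nz) * x₀ * ((n : H) * (t : Nz))⁻¹
            = (n : H) * (((t : Nz) : H) * x₀) * ((t : Nz) : H)⁻¹ * (n : H)⁻¹ := by group
          _ = _ := by rw [h2]; group
    rw [hOc]
    refine Nat.odd_iff.2 (Nat.two_dvd_ne_zero.1 fun hd => S.not_dvd_index (hd.trans ?_))
    refine (Subgroup.index_dvd_of_le hSt).trans ?_
    exact Dvd.intro _ (Subgroup.relIndex_mul_index (Subgroup.le_normalizer (H := (S : Subgroup H))))
  obtain ⟨j, hj⟩ := IsPGroup.iff_orderOf.1 S.isPGroup' ⟨x₀, hx₀⟩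
  obtain ⟨l, -, hl⟩ := Nat.exists_mul_mod_eq_one_of_coprime (n := O.card) (k := 2 ^ (j + 1))
    (Nat.Coprime.pow_right _ (Nat.coprime_two_right.2 hOodd)) (Nat.one_lt_two_pow (by omega))
  let a : (S : Subgroup H) := (∏ s ∈ O, s) ^ l
  refine ⟨(a : H), a.2, fun n hn => ?_, ?_⟩
  · have h1 : c ⟨n, hn⟩ a = a := by
      simp only [a, map_pow, map_prod]
      congr 1
      conv_rhs => rw [← hOinv ⟨n, hn⟩, Finset.prod_image fun _ _ _ _ h => hcinj _ h]
    exact congrArg Subtype.val h1
  · have hval : ∀ s ∈ O, r (s : H) = r x₀ := by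
      intro s hs
      obtain ⟨n, -, rfl⟩ := Finset.mem_image.1 hs
      show r ((n : H) * x₀ * (n : H)⁻¹) = _
      rw [map_mul, map_mul, map_inv, hAcomm (r n) (r x₀), mul_inv_cancel_right]
    letI : CommGroup A := { (inferInstance : Group A) with mul_comm := hAcomm }
    let r' : (S : Subgroup H) →* A := r.comp (S : Subgroup H).subtype
    show r' a = r x₀
    simp only [a, map_pow, map_prod]
    rw [Finset.prod_congr rfl (g := fun _ => r x₀) (show ∀ s ∈ O, r' s = r x₀ from hval), Finset.prod_const, ← pow_mul]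
    have h0 : r x₀ ^ 2 ^ (j + 1) = 1 := by
      have := pow_orderOf_eq_one (⟨x₀, hx₀⟩ : (S : Subgroup H))
      rw [hj] at this
      rw [pow_succ, pow_mul, ← map_pow, show x₀ ^ 2 ^ j = 1 from congrArg Subtype.val this, map_one,
        one_pow]
    rw [← Nat.div_add_mod (O.card * l) (2 ^ (j + 1)), hl, pow_add, pow_mul, h0, one_pow, one_mul,
      pow_one]

variable {G : Type u} [Group G] [Finite G]

/-- Glauberman: 2-power automorphisms fixing an abelian Sylow 2-subgroup are inner. -/
theorem inner_of_fix (hcore : Cfsg.pPrimeCore 2 G = ⊥) (P : Sylow 2 G)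
    (hab : IsMulCommutative (P : Subgroup G)) (α : MulAut G) (h2 : ∃ j : ℕ, orderOf α = 2 ^ j)
    (hfix : ∀ x ∈ (P : Subgroup G), α x = x) : ∃ g : G, ∀ x : G, α x = g * x * g⁻¹ := by
  classical
  haveI := Fact.mk Nat.prime_two
  obtain ⟨j, hj⟩ := h2
  let A := Subgroup.zpowers α
  haveI : Finite (MulAut G) := Finite.of_injective (fun e : MulAut G => e.toEquiv)
    fun e e' h => MulEquiv.ext fun x => congrArg (fun E : G ≃ G => E x) h
  let φ : A →* MulAut G := A.subtype
  let H := G ⋊[φ] A
  haveI : Finite H := Finite.of_equiv _ SemidirectProduct.equivProd.symm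
  have hAcard : Nat.card A = 2 ^ j := by rw [Nat.card_zpowers, hj]
  have hAfix : ∀ b : A, ∀ x ∈ (P : Subgroup G), φ b x = x := by
    rintro ⟨b, hb⟩ x hx
    obtain ⟨i, rfl⟩ := Subgroup.mem_zpowers_iff.1 hb
    show (α ^ i) x = x
    let F : Subgroup (MulAut G) := MulAction.stabilizer (MulAut G) x
    exact (F.zpow_mem (show α ∈ F from hfix x hx) i)
  let S₀ : Subgroup H :=
    { carrier := {h | h.left ∈ (P : Subgroup G)}
      one_mem' := show (1 : H).left ∈ (P : Subgroup G) from one_mem _
      mul_mem' := fun {a b} ha hb => by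
        show (a * b).left ∈ (P : Subgroup G)
        rw [SemidirectProduct.mul_left, hAfix a.right _ hb]
        exact mul_mem ha hb
      inv_mem' := fun {a} ha => by
        show a⁻¹.left ∈ (P : Subgroup G)
        rw [SemidirectProduct.inv_left, hAfix _ _ (inv_mem ha)]
        exact inv_mem ha }
  have hS₀ : ∀ h : H, h ∈ S₀ ↔ h.left ∈ (P : Subgroup G) := fun _ => Iff.rfl
  have hAcomm : ∀ b c : A, b * c = c * b := by
    rintro ⟨b, hb⟩ ⟨c, hc⟩
    obtain ⟨i, rfl⟩ := Subgroup.mem_zpowers_iff.1 hb
    obtain ⟨l, rfl⟩ := Subgroup.mem_zpowers_iff.1 hc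
    exact Subtype.ext (zpow_mul_comm α i l)
  have hS₀comm : ∀ x y : S₀, x * y = y * x := by
    rintro ⟨x, hx⟩ ⟨y, hy⟩
    refine Subtype.ext (SemidirectProduct.ext ?_ ?_)
    · show x.left * φ x.right y.left = y.left * φ y.right x.left
      rw [hAfix x.right _ hy, hAfix y.right _ hx]
      exact congrArg Subtype.val (hab.is_comm.comm ⟨x.left, hx⟩ ⟨y.left, hy⟩)
    · exact hAcomm _ _
  have hS₀card : Nat.card S₀ = Nat.card (P : Subgroup G) * 2 ^ j := by
    rw [← hAcard, ← Nat.card_prod]
    exact Nat.card_congr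
      { toFun := fun h => (⟨h.1.left, h.2⟩, h.1.right)
        invFun := fun q => ⟨⟨q.1.1, q.2⟩, q.1.2⟩
        left_inv := fun h => rfl
        right_inv := fun q => rfl }
  have hHcard : Nat.card H = Nat.card G * 2 ^ j := by
    rw [← hAcard, SemidirectProduct.card]
  let S : Sylow 2 H := Sylow.ofCard S₀ (by
    rw [hS₀card, hHcard, Nat.factorization_mul Nat.card_pos.ne' (by positivity), Finsupp.add_apply,
      Nat.prime_two.factorization_pow, Finsupp.single_eq_same, pow_add, P.card_eq_multiplicity])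
  have hScoe : (S : Subgroup H) = S₀ := Sylow.coe_ofCard _ _
  have habS : IsMulCommutative (S : Subgroup H) := by
    rw [hScoe]; exact ⟨⟨hS₀comm⟩⟩
  have hcoreH : ∀ N : Subgroup H, N.Normal → Odd (Nat.card N) → N = ⊥ := by
    intro N hNn hNo
    have hright : ∀ x ∈ N, x.right = 1 := by
      intro x hx
      have h1 : orderOf x.right ∣ Nat.gcd (Nat.card N) (Nat.card A) := Nat.dvd_gcd
        ((orderOf_map_dvd SemidirectProduct.rightHom x).trans (Subgroup.orderOf_dvd_natCard N hx))
        (orderOf_dvd_natCard _)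
      rw [hAcard, Nat.coprime_iff_gcd_eq_one.1 (Nat.Coprime.pow_right j (Nat.coprime_two_right.2 hNo)),
        Nat.dvd_one, orderOf_eq_one_iff] at h1
      exact h1
    set N₀ := N.comap (SemidirectProduct.inl : G →* H) with hN₀
    have hcard : Nat.card N₀ ∣ Nat.card N := Subgroup.card_dvd_of_injective
      ({ toFun := fun x => ⟨SemidirectProduct.inl (x : G), x.2⟩
         map_one' := Subtype.ext (map_one _)
         map_mul' := fun a b => Subtype.ext (map_mul _ _ _) } : N₀ →* N)
      fun a b h => Subtype.ext (SemidirectProduct.inl_injective (congrArg Subtype.val h))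
    haveI : N₀.Normal := hNn.comap _
    have hbot : N₀ = ⊥ := by
      refine le_bot_iff.1 (hcore ▸ CfsgLib.Fus.le_pPrimeCore (p := 2) inferInstance ?_)
      exact Nat.Coprime.coprime_dvd_left hcard (Nat.coprime_two_right.2 hNo)
    refine (Subgroup.eq_bot_iff_forall _).2 fun x hx => ?_
    have hxe : x = SemidirectProduct.inl x.left := SemidirectProduct.ext rfl (hright x hx)
    have h2 : x.left ∈ N₀ := by
      show SemidirectProduct.inl x.left ∈ N
      rwa [← hxe]
    rw [hbot, Subgroup.mem_bot] at h2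
    rw [hxe, h2, map_one]
  obtain ⟨a, haS, hafix, har⟩ := exists_fixed_lift S habS
    (x₀ := (SemidirectProduct.inr (⟨α, Subgroup.mem_zpowers α⟩ : A) : H))
    (by rw [← SetLike.mem_coe, hScoe]; exact one_mem (P : Subgroup G)) hAcomm
    (SemidirectProduct.rightHom : H →* A)
  have haright : a.right = ⟨α, Subgroup.mem_zpowers α⟩ := har
  obtain ⟨i, hi⟩ := IsPGroup.iff_orderOf.1 S.isPGroup' ⟨a, haS⟩
  rw [Subgroup.orderOf_mk] at hi
  have hcen := central_of_fixed i H hcoreH S habS a haS (hi ▸ dvd_rfl) hafix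
  refine ⟨a.left⁻¹, fun x => ?_⟩
  have h1 := hcen (SemidirectProduct.inl x)
  rw [mul_inv_eq_iff_eq_mul] at h1
  have h2 := congrArg SemidirectProduct.left h1
  change x * φ 1 a.left = a.left * φ a.right x at h2
  rw [map_one, MulAut.one_apply, haright] at h2
  change x * a.left = a.left * α x at h2
  rw [inv_inv, mul_assoc, h2, inv_mul_cancel_left]

end CfsgLib.Base.ZStar.AbelianAut
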