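import Cfsg.Agent.Base.QuaternionEight
import Cfsg.Agent.Inv.Isolated
import Cfsg.Agent.Solv.UniqueSub

/-!
Glauberman's Z* theorem.
-/

set_option autoImplicit false
set_option linter.unusedSectionVars false

namespace CfsgLib.Base.ZStar

open Cfsg CfsgLib.Char CfsgLib.Blk CfsgLib.Inv
open scoped ComplexConjugate

universe u

variable {G : Type u} [Group G] [Finite G]

/-- Isolation of an involution survives in homomorphic images. -/
theorem isolated_map {H : Type*} [Group H] (f : G →* H) (hf : Function.Surjective f) {z : G}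
    (hz : orderOf z = 2) (hiso : Cfsg.IsIsolated z) : Cfsg.IsIsolated (f z) := by
  intro q hq
  obtain ⟨g, rfl⟩ := hf q
  have ho := isolated_odd hz hiso g
  have h1 : orderOf (f (z * (g * z * g⁻¹))) ∣ orderOf (z * (g * z * g⁻¹)) := orderOf_map_dvd f _
  have hsq : f z * f z = 1 := by rw [← map_mul, invol_mul_self hz, map_one]
  have h2 : f (z * (g * z * g⁻¹)) ^ 2 = 1 := by
    simp only [map_mul, map_inv]
    have hsq' : (f g * f z * (f g)⁻¹) * (f g * f z * (f g)⁻¹) = 1 := by
      calc (f g * f z * (f g)⁻¹) * (f g * f z * (f g)⁻¹) = f g * (f z * f z) * (f g)⁻¹ := by group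
        _ = 1 := by rw [hsq]; group
    rw [pow_two, hq.symm.mul_mul_mul_comm, hsq, hsq', one_mul]
  have h3 : f (z * (g * z * g⁻¹)) = 1 := by
    rcases (Nat.dvd_prime Nat.prime_two).1 (orderOf_dvd_of_pow_eq_one h2) with h | h
    · exact orderOf_eq_one_iff.1 h
    · rw [h] at h1
      exact absurd (even_iff_two_dvd.2 h1) (Nat.not_even_iff_odd.2 ho)
  simp only [map_mul, map_inv] at h3
  rw [eq_inv_of_mul_eq_one_right h3]
  exact inv_eq_of_mul_eq_one_right hsq

/-- An isolated involution commutes with every 2-subgroup containing it. -/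
theorem isolated_commute_twoGroup {z : G} (hz : orderOf z = 2) (hiso : Cfsg.IsIsolated z)
    {P : Subgroup G} (hP : IsPGroup 2 P) (hzP : z ∈ P) {g : G} (hg : g ∈ P) :
    g * z * g⁻¹ = z := by
  haveI : Fact (Nat.Prime 2) := ⟨Nat.prime_two⟩
  have hodd := isolated_odd hz hiso g
  obtain ⟨k, hk⟩ := IsPGroup.iff_orderOf.1 hP
    ⟨z * (g * z * g⁻¹), mul_mem hzP (mul_mem (mul_mem hg hzP) (inv_mem hg))⟩
  rw [Subgroup.orderOf_mk] at hk
  have hk0 : k = 0 := by
    by_contra hk0
    rw [hk] at hodd
    exact Nat.not_odd_iff_even.2 ((even_two).pow_of_ne_zero hk0) hodd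
  rw [hk0, pow_zero, orderOf_eq_one_iff] at hk
  exact (eq_inv_of_mul_eq_one_right hk).trans (invol_inv hz)

theorem not_two_dvd_oddCore : ¬ 2 ∣ Nat.card (Cfsg.oddCore G) := by
  rw [← even_iff_two_dvd, Nat.not_even_iff_odd]
  exact Nat.coprime_two_right.1 (CfsgLib.Fus.coprime_card_pPrimeCore 2)

theorem oddCore_bot_subgroup (hO : ∀ N : Subgroup G, N.Normal → Odd (Nat.card N) → N = ⊥)
    (K : Subgroup G) [K.Normal] : Cfsg.oddCore K = ⊥ := by
  set L := Cfsg.oddCore K
  haveI := CfsgLib.Fus.normal_pPrimeCore (G := K) 2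
  haveI : L.Characteristic := CfsgLib.Fus.characteristic_pPrimeCore 2
  have hL : (L.map K.subtype).Normal := ConjAct.normal_of_characteristic_of_normal
  have hLodd : Odd (Nat.card (L.map K.subtype)) := by
    rw [← Nat.card_congr (L.equivMapOfInjective _ Subtype.val_injective).toEquiv]
    exact Nat.coprime_two_right.1 (CfsgLib.Fus.coprime_card_pPrimeCore 2)
  have := hO _ hL hLodd
  rwa [Subgroup.map_eq_bot_iff_of_injective _ Subtype.val_injective] at this

open Classical in
/-- The statement for all groups of smaller order gives the theorem for groups without odd core. -/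
theorem central_step (hO : ∀ N : Subgroup G, N.Normal → Odd (Nat.card N) → N = ⊥)
    (ih : ∀ (H : Type u) [Group H] [Finite H], Nat.card H < Nat.card G → ∀ v : H, orderOf v = 2 →
      Cfsg.IsIsolated v → ∀ h : H, v * h * v⁻¹ * h⁻¹ ∈ Cfsg.oddCore H)
    {z : G} (hz : orderOf z = 2) (hiso : Cfsg.IsIsolated z) : ∀ g : G, g * z * g⁻¹ = z := by
  letI := Fintype.ofFinite G
  haveI : Fact (Nat.Prime 2) := ⟨Nat.prime_two⟩
  have hzp : IsPGroup 2 (Subgroup.zpowers z) :=
    IsPGroup.of_card (n := 1) (by rw [Nat.card_zpowers, hz, pow_one])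
  obtain ⟨P, hP⟩ := hzp.exists_le_sylow
  have hzP : z ∈ P := hP (Subgroup.mem_zpowers z)
  -- a Sylow subgroup with a single involution
  by_cases hex : ∃ v : G, orderOf v = 2 ∧ v ≠ z ∧ Commute z v
  swap
  · intro g
    push Not at hex
    have huniq : ∀ a : (P : Subgroup G), orderOf a = 2 → (a : G) = z := by
      intro a ha
      by_contra hne
      refine hex a (by rw [Subgroup.orderOf_coe]; exact ha) hne ?_
      exact (mul_inv_eq_iff_eq_mul.1
        (isolated_commute_twoGroup hz hiso P.isPGroup' hzP a.2)).symm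
    rcases CfsgLib.Solv.pgroup_unique_sub P.isPGroup' (fun a b ha hb => by
        rw [Subtype.ext ((huniq b hb).trans (huniq a ha).symm)]
        exact Subgroup.mem_zpowers a) with hc | ⟨-, n, ⟨e⟩⟩
    · have hG : IsPGroup 2 (⊤ : Subgroup G) := by
        obtain ⟨R⟩ := (inferInstance : Nonempty (Sylow 2 (⊤ : Subgroup G)))
        have hR : IsCyclic (R : Subgroup (⊤ : Subgroup G)) := by
          obtain ⟨P', hP'⟩ := (R.2.map (⊤ : Subgroup G).subtype).exists_le_sylow
          obtain ⟨c, rfl⟩ := MulAction.exists_smul_eq G P P'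
          haveI := hc
          have hcc : IsCyclic ((c • P : Sylow 2 G) : Subgroup G) :=
            isCyclic_of_surjective _ (Sylow.equiv P (c • P)).surjective
          haveI := hcc
          exact isCyclic_of_injective
            ((Subgroup.inclusion hP').comp ((R : Subgroup (⊤ : Subgroup G)).equivMapOfInjective _
              Subtype.val_injective).toMonoidHom)
            ((Subgroup.inclusion_injective hP').comp (MulEquiv.injective _))
        exact CfsgLib.Base.BS.isPGroup_of_cyclic_sylow hO ⊤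
          (by rw [Subgroup.card_top, ← hz]; exact orderOf_dvd_natCard z) R hR
      exact isolated_commute_twoGroup hz hiso hG (Subgroup.mem_top z) (Subgroup.mem_top g)
    · exact mul_inv_eq_iff_eq_mul.2 (Subgroup.mem_center_iff.1
        (CfsgLib.Base.BS.invol_central hO P (n + 1) le_add_self e hz) g)
  obtain ⟨v, hv, hvz, hzv⟩ := hex
  -- involutions in the centre
  by_cases hZ : ∃ w : G, orderOf w = 2 ∧ w ∈ Subgroup.center G
  · obtain ⟨w, hw, hwZ⟩ := hZ
    intro g
    by_cases hzw : z = w
    · rw [hzw, Subgroup.mem_center_iff.1 hwZ g, mul_inv_cancel_right]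
    set W := Subgroup.zpowers w with hW
    haveI hWn : W.Normal := Subgroup.Normal.mk fun a ha b => by
      have := Subgroup.mem_center_iff.1 ((Subgroup.zpowers_le.2 hwZ) ha) b
      rw [this, mul_inv_cancel_right]; exact ha
    have hWm : ∀ a ∈ W, a = 1 ∨ a = w := by
      rintro a ⟨j, rfl⟩
      rcases Int.even_or_odd j with ⟨i, rfl⟩ | ⟨i, rfl⟩
      · left
        show w ^ (i + i) = 1
        rw [← two_mul, zpow_mul, zpow_two, invol_mul_self hw, one_zpow]
      · right
        show w ^ (2 * i + 1) = w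
        rw [zpow_add, zpow_mul, zpow_two, invol_mul_self hw, one_zpow, one_mul, zpow_one]
    set f := QuotientGroup.mk' W with hf
    have hfz : orderOf (f z) = 2 := orderOf_eq_prime (by
      rw [← map_pow, ← hz, pow_orderOf_eq_one, map_one]) (fun h => by
        rcases hWm z ((QuotientGroup.eq_one_iff z).1 h) with h1 | h1
        · exact invol_ne_one hz h1
        · exact hzw h1)
    have hWcard : Nat.card W = 2 := by rw [hW, Nat.card_zpowers, hw]
    have hlt : Nat.card (G ⧸ W) < Nat.card G := by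
      rw [W.card_eq_card_quotient_mul_card_subgroup]
      exact lt_mul_of_one_lt_right Nat.card_pos (by omega)
    have hOQ : Cfsg.oddCore (G ⧸ W) = ⊥ := by
      set K := Cfsg.oddCore (G ⧸ W)
      haveI : K.Normal := CfsgLib.Fus.normal_pPrimeCore 2
      set L := K.comap f with hL
      have hLW : W ≤ L := fun a ha => by
        rw [hL, Subgroup.mem_comap, hf, QuotientGroup.mk'_apply, (QuotientGroup.eq_one_iff a).2 ha]
        exact one_mem K
      have heven : 2 ∣ Nat.card L := hWcard ▸ Subgroup.card_dvd_of_le hLW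
      obtain ⟨R⟩ := (inferInstance : Nonempty (Sylow 2 L))
      have hRc : Nat.card R = 2 := by
        have hcard : Nat.card L = Nat.card K * 2 := by
          have h1 := Subgroup.index_comap_of_surjective K (f := f) (QuotientGroup.mk'_surjective W)
          have h2 := L.card_mul_index
          rw [hL, h1, ← hL, W.card_eq_card_quotient_mul_card_subgroup, ← K.card_mul_index,
            hWcard] at h2
          have h3 : K.index ≠ 0 := Subgroup.index_ne_zero_of_finite
          have : Nat.card L * K.index = Nat.card K * 2 * K.index := by rw [h2]; ring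
          exact Nat.eq_of_mul_eq_mul_right (Nat.pos_of_ne_zero h3) this
        rw [R.card_eq_multiplicity, hcard, Nat.factorization_mul Nat.card_pos.ne' two_ne_zero]
        have h0 : (Nat.card K).factorization 2 = 0 :=
          Nat.factorization_eq_zero_of_not_dvd not_two_dvd_oddCore
        rw [Finsupp.add_apply, h0, zero_add, Nat.Prime.factorization_self Nat.prime_two, pow_one]
      have hL2 := CfsgLib.Base.BS.isPGroup_of_cyclic_sylow hO L heven R
        (isCyclic_of_prime_card (p := 2) hRc)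
      rw [Subgroup.eq_bot_iff_forall]
      intro q hq
      obtain ⟨a, rfl⟩ := QuotientGroup.mk'_surjective W q
      obtain ⟨k, hk⟩ := IsPGroup.iff_orderOf.1 hL2 ⟨a, show a ∈ L from hq⟩
      replace hk : orderOf a = 2 ^ k := by rw [← hk, ← Subgroup.orderOf_coe]
      have h1 : orderOf (f a) ∣ 2 ^ k := hk ▸ orderOf_map_dvd f a
      have h2 : orderOf (f a) ∣ Nat.card K := Subgroup.orderOf_dvd_natCard K hq
      rw [← orderOf_eq_one_iff]
      exact Nat.eq_one_of_dvd_coprimes
        (Nat.Coprime.pow_left k ((Nat.prime_two.coprime_iff_not_dvd).2 not_two_dvd_oddCore)) h1 h2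
    have hc := ih (G ⧸ W) hlt (f z) hfz (isolated_map f (QuotientGroup.mk'_surjective W) hz hiso) (f g)
    rw [hOQ, Subgroup.mem_bot, ← map_inv, ← map_inv, ← map_mul, ← map_mul, ← map_mul] at hc
    rcases hWm _ ((QuotientGroup.eq_one_iff _).1 hc) with h1 | h1
    · calc g * z * g⁻¹ = (z * g * z⁻¹ * g⁻¹)⁻¹ * z := by group
        _ = z := by rw [h1, inv_one, one_mul]
    · exfalso
      have h2 : z * (g * z * g⁻¹) = w := by
        calc z * (g * z * g⁻¹) = z * g * z⁻¹ * g⁻¹ := by rw [invol_inv hz]; group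
          _ = w := h1
      have := isolated_odd hz hiso g
      rw [h2, hw] at this
      exact absurd this (by decide)
  push Not at hZ
  -- proper normal subgroups
  by_cases hN : ∃ N : Subgroup G, N.Normal ∧ z ∈ N ∧ N ≠ ⊤
  · obtain ⟨N, hNn, hzN, hNt⟩ := hN
    haveI := hNn
    intro g
    have hlt : Nat.card N < Nat.card G := lt_of_le_of_ne (Subgroup.card_le_card_group N)
      fun h => hNt (Subgroup.eq_top_of_card_eq _ h)
    have hisoN : Cfsg.IsIsolated (⟨z, hzN⟩ : N) := fun a ha =>
      Subtype.ext (hiso (a : G) (congrArg Subtype.val ha.eq))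
    have hc := ih N hlt ⟨z, hzN⟩ (by rw [Subgroup.orderOf_mk]; exact hz) hisoN
      ⟨g * z * g⁻¹, hNn.conj_mem _ hzN g⟩
    rw [oddCore_bot_subgroup hO N, Subgroup.mem_bot] at hc
    refine hiso g ?_
    have h1 : z * (g * z * g⁻¹) * z⁻¹ * (g * z * g⁻¹)⁻¹ = 1 := congrArg Subtype.val hc
    exact mul_inv_eq_iff_eq_mul.1 (mul_inv_eq_one.1 h1)
  push Not at hN
  exfalso
  obtain ⟨M, hM⟩ := exists_isPModular (q := 2) Nat.prime_two
  haveI := CfsgLib.Blk.IsPModular.isPrime hM
  have hproper : ∀ w : G, orderOf w = 2 → Subgroup.centralizer ({w} : Set G) ≠ ⊤ := by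
    intro w hw h
    refine hZ w hw (Subgroup.mem_center_iff.2 fun a => ?_)
    have : a ∈ Subgroup.centralizer ({w} : Set G) := h ▸ Subgroup.mem_top a
    exact Subgroup.mem_centralizer_singleton_iff.1 this
  -- the main identity
  have key : ∀ v : G, orderOf v = 2 → ¬ IsConj z v → Commute z v →
      ∀ χ : IrrCharacter G, χ ∈ principalBlock M G →
        (χ : G → ℂ) z * (χ : G → ℂ) v = (χ : G → ℂ) 1 * (χ : G → ℂ) (z * v) := by
    intro v hv hnc hzv χ hχ
    have hcf := classFun_of_irr χ.2
    have hfix : ∀ y : G, IsConj v y → (χ : G → ℂ) (z * y) = (χ : G → ℂ) (z * v) := by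
      intro y hy
      obtain ⟨g, hg⟩ := isConj_iff.1 hy
      have hy2 : orderOf y = 2 := hg ▸ invol_conj hv g
      have heven : Even (orderOf (z * y)) := by
        by_contra hne
        rw [Nat.not_even_iff_odd] at hne
        obtain ⟨k, -, -, -, hk⟩ := rep_exists hz hy2 (by
          have : y * z = (z * y)⁻¹ := by rw [mul_inv_rev, invol_inv hz, invol_inv hy2]
          rw [this, orderOf_inv]; exact hne)
        exact hnc ((isConj_iff.2 ⟨k, hk⟩).trans hy.symm)
      obtain ⟨hw2, hcz, -⟩ := even_center hz hy2 heven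
      set n := orderOf (z * y) / 2 with hn
      set x := z * y with hx
      have hord : orderOf x = 2 * n := by obtain ⟨t, ht⟩ := heven; omega
      set w := x ^ n with hw
      set H := Subgroup.centralizer ({w} : Set G) with hH
      have hzH : z ∈ H := Subgroup.mem_centralizer_singleton_iff.2 hcz.symm.eq
      have hxH : x ∈ H := Subgroup.mem_centralizer_singleton_iff.2
        ((Commute.refl x).pow_right n).eq
      have hlt : Nat.card H < Nat.card G := lt_of_le_of_ne (Subgroup.card_le_card_group H)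
        fun h => hproper w hw2 (Subgroup.eq_top_of_card_eq _ h)
      have hisoH : Cfsg.IsIsolated (⟨z, hzH⟩ : H) := fun a ha =>
        Subtype.ext (hiso (a : G) (congrArg Subtype.val ha.eq))
      have hc := ih H hlt ⟨z, hzH⟩ (by rw [Subgroup.orderOf_mk]; exact hz) hisoH ⟨x, hxH⟩
      have hinv : z * x * z⁻¹ * x⁻¹ = (x ^ 2)⁻¹ := by
        have h5 : z * x * z⁻¹ = x⁻¹ := by
          rw [hx, mul_inv_rev, invol_inv hz, invol_inv hy2, ← mul_assoc, invol_mul_self hz, one_mul]
        rw [h5, ← inv_pow, pow_two]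
      have hx2 : (⟨x, hxH⟩ : H) ^ 2 ∈ Cfsg.oddCore H := by
        have he : (⟨z, hzH⟩ : H) * ⟨x, hxH⟩ * (⟨z, hzH⟩ : H)⁻¹ * (⟨x, hxH⟩ : H)⁻¹
            = ((⟨x, hxH⟩ : H) ^ 2)⁻¹ := Subtype.ext (by simpa using hinv)
        rw [he] at hc
        exact inv_mem_iff.1 hc
      have hnodd : Odd n := by
        have h1 := Subgroup.orderOf_dvd_natCard _ hx2
        rw [orderOf_pow_of_dvd two_ne_zero (by rw [Subgroup.orderOf_mk, hord]; exact dvd_mul_right 2 n),
          Subgroup.orderOf_mk, hord, Nat.mul_div_cancel_left _ two_pos] at h1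
        rw [← Nat.not_even_iff_odd, even_iff_two_dvd]
        exact fun h2 => not_two_dvd_oddCore (h2.trans h1)
      obtain ⟨m, hm⟩ := hnodd
      set r : H := ((⟨x, hxH⟩ : H) ^ 2) ^ (m + 1) with hr
      have hwr : w * (r : G) = x := by
        show x ^ n * _ = x
        rw [hr, SubmonoidClass.coe_pow, SubmonoidClass.coe_pow, ← pow_mul, ← pow_add,
          show n + 2 * (m + 1) = orderOf x + 1 by omega, pow_succ, pow_orderOf_eq_one, one_mul]
      have hcore : (Cfsg.oddCore H).Normal := CfsgLib.Fus.normal_pPrimeCore 2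
      haveI := hcore
      have hval := principal_apply_mul_eq hM (u := w) ⟨1, by rw [hw2, pow_one]⟩ (Cfsg.oddCore H)
        not_two_dvd_oddCore (v := r) (pow_mem hx2 _) hχ
      rw [hwr] at hval
      rw [hval]
      -- identify the involution
      have hy' : y = x ^ (m : ℤ) * (z * w) * (x ^ (m : ℤ))⁻¹ := by
        have hflip : x ^ (m : ℤ) * z = z * x ^ (-(m : ℤ)) := by
          rw [hx]; exact pair_flip hz hy2 _
        calc y = z * x := by rw [hx, ← mul_assoc, invol_mul_self hz, one_mul]
          _ = z * (x ^ (-(m : ℤ)) * x ^ (n : ℤ) * x ^ (-(m : ℤ))) := by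
            rw [← zpow_add, ← zpow_add, show -(m : ℤ) + n + -m = 1 by omega, zpow_one]
          _ = x ^ (m : ℤ) * (z * w) * (x ^ (m : ℤ))⁻¹ := by
            rw [← mul_assoc, ← mul_assoc, ← hflip, zpow_natCast x n, ← hw, zpow_neg, mul_assoc (x ^ (m : ℤ))]
      set s := x ^ (m : ℤ)
      have hzw : (s⁻¹ * g) * v * (s⁻¹ * g)⁻¹ = z * w := by
        calc (s⁻¹ * g) * v * (s⁻¹ * g)⁻¹ = s⁻¹ * (g * v * g⁻¹) * s := by group
          _ = z * w := by rw [hg, hy']; group
      set a := s⁻¹ * g
      set Hv := Subgroup.centralizer ({v} : Set G) with hHv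
      have hzHv : z ∈ Hv := Subgroup.mem_centralizer_singleton_iff.2 hzv.eq
      have haz : a⁻¹ * z * a⁻¹⁻¹ ∈ Hv := by
        rw [hHv, Subgroup.mem_centralizer_singleton_iff]
        have h1 : z * (z * w) = (z * w) * z := by
          rw [mul_assoc, hcz.eq]
        have h2 : a⁻¹ * (z * (a * v * a⁻¹)) * a = a⁻¹ * ((a * v * a⁻¹) * z) * a := by
          rw [hzw, h1]
        calc a⁻¹ * z * a⁻¹⁻¹ * v = a⁻¹ * (z * (a * v * a⁻¹)) * a := by group
          _ = a⁻¹ * ((a * v * a⁻¹) * z) * a := h2
          _ = v * (a⁻¹ * z * a⁻¹⁻¹) := by group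
      obtain ⟨h, hh, hhz⟩ := isolated_fusion hz hiso hzHv haz
      set c := a * h
      have hcz : c * z * c⁻¹ = z := by
        calc c * z * c⁻¹ = a * (h * z * h⁻¹) * a⁻¹ := by simp only [c]; group
          _ = z := by rw [hhz]; group
      have hcv : c * v * c⁻¹ = z * w := by
        have h1 := Subgroup.mem_centralizer_singleton_iff.1 hh
        calc c * v * c⁻¹ = a * (h * v * h⁻¹) * a⁻¹ := by simp only [c]; group
          _ = z * w := by rw [h1, mul_inv_cancel_right, hzw]
      have hw' : w = c * (z * v) * c⁻¹ := by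
        calc w = z * (z * w) := by rw [← mul_assoc, invol_mul_self hz, one_mul]
          _ = (c * z * c⁻¹) * (c * v * c⁻¹) := by rw [hcz, hcv]
          _ = c * (z * v) * c⁻¹ := by group
      rw [hw', hcf]
    have hall : ∀ a b : G, IsConj z a → IsConj v b →
        (χ : G → ℂ) (a * b) = (χ : G → ℂ) (z * v) := by
      intro a b ha hb
      obtain ⟨c, hc⟩ := isConj_iff.1 ha
      have h1 : a * b = c * (z * (c⁻¹ * b * c)) * c⁻¹ := by rw [← hc]; group
      rw [h1, hcf]
      exact hfix _ (hb.trans (isConj_iff.2 ⟨c⁻¹, by group⟩))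
    have h := centralChar_mul χ.2 z v
    rw [centralChar, centralChar, Finset.sum_congr rfl (fun a ha => Finset.sum_congr rfl
      (fun b hb => hall a b (Finset.mem_filter.1 ha).2 (Finset.mem_filter.1 hb).2))] at h
    simp only [Finset.sum_const, nsmul_eq_mul, card_filter_isConj] at h
    have h0 := irr_one_ne_zero χ.2
    have hi1 : ((Subgroup.centralizer ({z} : Set G)).index : ℂ) ≠ 0 := by
      exact_mod_cast Subgroup.index_ne_zero_of_finite
    have hi2 : ((Subgroup.centralizer ({v} : Set G)).index : ℂ) ≠ 0 := by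
      exact_mod_cast Subgroup.index_ne_zero_of_finite
    field_simp at h
    linear_combination h
  have hnc : ∀ v : G, Commute z v → v ≠ z → ¬ IsConj z v := fun v hc hne h => by
    obtain ⟨g, hg⟩ := isConj_iff.1 h
    exact hne (hg ▸ hiso g (hg.symm ▸ hc))
  have hzv2 : orderOf (z * v) = 2 := by
    rw [invol_iff]
    refine ⟨fun h => hvz ?_, ?_⟩
    · rw [eq_inv_of_mul_eq_one_right h, invol_inv hz]
    · rw [hzv.symm.mul_mul_mul_comm, invol_mul_self hz, invol_mul_self hv, one_mul]
  have hczv : Commute z (z * v) := (Commute.refl z).mul_right hzv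
  have hnzv : z * v ≠ z := fun h => invol_ne_one hv (mul_eq_left.1 h)
  -- block orthogonality
  set B0 := principalBlock M G
  have horth : ∀ a : G, (∃ k, orderOf a = 2 ^ k) → ¬ IsConj a v →
      ∑ χ : IrrCharacter G, (if χ ∈ B0 then (χ : G → ℂ) a * conj ((χ : G → ℂ) v) else 0) = 0 := by
    intro a ha hav
    have h := block_orth hM (isPBlock_principalBlock (G := G)) (isPPart_self ha Nat.prime_two)
      (isPPart_self ⟨1, by rw [hv, pow_one]⟩ Nat.prime_two) hav
    rwa [finsum_mem_eq_sum_ite] at h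
  have e1 := horth 1 ⟨0, by simp⟩ (fun h => invol_ne_one hv (isConj_one_right.1 h))
  have e2 := horth z ⟨1, by rw [hz, pow_one]⟩ (hnc v hzv hvz)
  have e3 : ∑ χ : IrrCharacter G, (if χ ∈ B0 then
      ((χ : G → ℂ) 1 + (χ : G → ℂ) z) * conj ((χ : G → ℂ) v) else 0) = 0 := by
    have h12 := congrArg₂ (· + ·) e1 e2
    simp only [add_zero, ← Finset.sum_add_distrib] at h12
    refine Eq.trans (Finset.sum_congr rfl fun χ _ => ?_) h12
    split_ifs <;> ring
  rw [Finset.sum_eq_single (⟨_, isIrr_one⟩ : IrrCharacter G)] at e3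
  · rw [if_pos one_mem_principalBlock] at e3
    norm_num at e3
  · intro χ _ hne
    by_cases hχ : χ ∈ B0
    swap
    · rw [if_neg hχ]
    rw [if_pos hχ]
    have k1 := key v hv (hnc v hzv hvz) hzv χ hχ
    have k2 := key (z * v) hzv2 (hnc _ hczv hnzv) hczv χ hχ
    rw [← mul_assoc, invol_mul_self hz, one_mul] at k2
    have k3 : (χ : G → ℂ) v *
        (((χ : G → ℂ) z - (χ : G → ℂ) 1) * ((χ : G → ℂ) z + (χ : G → ℂ) 1)) = 0 := by
      linear_combination (χ : G → ℂ) z * k1 + (χ : G → ℂ) 1 * k2
    rcases mul_eq_zero.1 k3 with h | h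
    · rw [h, map_zero, mul_zero]
    rcases mul_eq_zero.1 h with h | h
    · exfalso
      obtain ⟨K, hKn, hK, -⟩ := exists_kernel (isCharacter_of_isIrr χ.2)
      have hKt := hN K hKn ((hK z).2 (sub_eq_zero.1 h))
      apply hne
      have hall : ∀ y : G, (χ : G → ℂ) y = (χ : G → ℂ) 1 := fun y =>
        (hK y).1 (hKt ▸ Subgroup.mem_top y)
      have hnorm := irr_inner_self χ.2
      rw [classInner_def] at hnorm
      simp only [hall, Finset.sum_const, Finset.card_univ, nsmul_eq_mul,
        ← Nat.card_eq_fintype_card] at hnorm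
      rw [← mul_assoc, inv_mul_cancel₀ (natCard_ne_zero G), one_mul] at hnorm
      obtain ⟨d, hd, hd'⟩ := irr_deg χ.2
      rw [hd', Complex.conj_natCast] at hnorm
      have : d = 1 := by
        have h1 : d * d = 1 := by exact_mod_cast hnorm
        nlinarith
      exact Subtype.ext (funext fun y => by rw [hall, hd', this, Nat.cast_one])
    · rw [add_comm ((χ : G → ℂ) 1), h, zero_mul]
  · exact fun h => absurd (Finset.mem_univ _) h

theorem zstar_aux : ∀ (n : ℕ) (G : Type u) [Group G] [Finite G], Nat.card G = n →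
    ∀ z : G, orderOf z = 2 → Cfsg.IsIsolated z →
      ∀ g : G, z * g * z⁻¹ * g⁻¹ ∈ Cfsg.oddCore G := by
  intro n
  induction n using Nat.strong_induction_on with
  | _ n ih =>
  intro G _ _ hn z hz hiso g
  haveI : Fact (Nat.Prime 2) := ⟨Nat.prime_two⟩
  haveI : (Cfsg.oddCore G).Normal := CfsgLib.Fus.normal_pPrimeCore 2
  set N := Cfsg.oddCore G with hN
  by_cases hb : N = ⊥
  · have hO : ∀ L : Subgroup G, L.Normal → Odd (Nat.card L) → L = ⊥ := fun L hL hodd =>
      eq_bot_iff.2 (hb ▸ CfsgLib.Fus.le_pPrimeCore hL (Nat.coprime_two_right.2 hodd))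
    have hc := central_step hO (fun H _ _ hlt v hv hisov => ih _ (hn ▸ hlt) H rfl v hv hisov)
      hz hiso g
    rw [hb, Subgroup.mem_bot]
    calc z * g * z⁻¹ * g⁻¹ = z * (g * z * g⁻¹)⁻¹ := by group
      _ = 1 := by rw [hc, mul_inv_cancel]
  set f := QuotientGroup.mk' N with hf
  have hlt : Nat.card (G ⧸ N) < n := by
    rw [← hn, N.card_eq_card_quotient_mul_card_subgroup]
    exact lt_mul_of_one_lt_right Nat.card_pos ((Subgroup.one_lt_card_iff_ne_bot N).2 hb)
  have hfz : orderOf (f z) = 2 := orderOf_eq_prime (by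
    rw [← map_pow, ← hz, pow_orderOf_eq_one, map_one]) (fun h => by
      have h1 := Subgroup.orderOf_dvd_natCard N ((QuotientGroup.eq_one_iff z).1 h)
      rw [hz] at h1
      exact not_two_dvd_oddCore h1)
  have hOQ : Cfsg.oddCore (G ⧸ N) = ⊥ := by
    set K := Cfsg.oddCore (G ⧸ N)
    haveI : K.Normal := CfsgLib.Fus.normal_pPrimeCore 2
    have hodd : (Nat.card (K.comap f)).Coprime 2 := by
      rw [Nat.coprime_two_right, ← Nat.not_even_iff_odd, even_iff_two_dvd]
      intro h2
      obtain ⟨⟨a, ha⟩, hao⟩ := exists_prime_orderOf_dvd_card' 2 h2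
      rw [Subgroup.orderOf_mk] at hao
      have h1 : f a ^ 2 = 1 := by rw [← map_pow, ← hao, pow_orderOf_eq_one, map_one]
      rcases (Nat.dvd_prime Nat.prime_two).1 (orderOf_dvd_of_pow_eq_one h1) with h | h
      · have h3 := Subgroup.orderOf_dvd_natCard N
          ((QuotientGroup.eq_one_iff a).1 (orderOf_eq_one_iff.1 h))
        rw [hao] at h3
        exact not_two_dvd_oddCore h3
      · exact not_two_dvd_oddCore (h ▸ Subgroup.orderOf_dvd_natCard K ha)
    have hle : K.comap f ≤ N := CfsgLib.Fus.le_pPrimeCore inferInstance hodd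
    rw [← Subgroup.map_comap_eq_self_of_surjective (QuotientGroup.mk'_surjective N) K,
      eq_bot_iff, Subgroup.map_le_iff_le_comap]
    intro a ha
    exact (QuotientGroup.eq_one_iff a).2 (hle ha)
  have hc := ih _ hlt (G ⧸ N) rfl (f z) hfz
    (isolated_map f (QuotientGroup.mk'_surjective N) hz hiso) (f g)
  rw [hOQ, Subgroup.mem_bot, ← map_inv, ← map_inv, ← map_mul, ← map_mul, ← map_mul] at hc
  exact (QuotientGroup.eq_one_iff _).1 hc

/-- Glauberman's Z* theorem. -/
theorem zstar (P : Sylow 2 G) (z : G) (hz : orderOf z = 2) (hzP : z ∈ P)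
    (hiso : ∀ g : G, g * z * g⁻¹ ∈ P → g * z * g⁻¹ = z) :
    ∃ N : Subgroup G, N.Normal ∧ Odd (Nat.card N) ∧ ∀ g : G, z * g * z⁻¹ * g⁻¹ ∈ N :=
  ⟨Cfsg.oddCore G, CfsgLib.Fus.normal_pPrimeCore 2,
    Nat.coprime_two_right.1 (CfsgLib.Fus.coprime_card_pPrimeCore 2),
    zstar_aux _ G rfl z hz (isolated_of_sylow P hz hzP hiso)⟩

end CfsgLib.Base.ZStar
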